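import Mathlib
import Cfsg.Agent.OD.DX

set_option autoImplicit false
set_option linter.unusedSectionVars false

namespace Cfsg.Agent.OD

open Cfsg Cfsg.Agent.GT Cfsg.Agent.Loc.Mss Cfsg.Agent.StdB Cfsg.Agent.Chev Cfsg.Agent.FE Cfsg.Agent.EE Subgroup
open scoped commutatorElement

variable {ι Nd M : Type} [AddCommGroup M] [Fintype Nd] [Fintype ι] [DecidableEq ι] {R : StRoot ι Nd M}
  {T : Top R} {F : Type} [Field F] [Finite F] [CharP F 2] {G : Type*} [Group G] [Finite G] {b : Db' T F G}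

/-- the scalar multiplication on `Y` -/
noncomputable def Db'.sm (b : Db' T F G) (u : F) (y : G) : G := ⁅b.x T.al u, b.X T.r1 y⁆

theorem DMod.conj_comm (g a c : G) : g * ⁅a, c⁆ * g⁻¹ = ⁅g * a * g⁻¹, g * c * g⁻¹⁆ := by
  simp only [commutatorElement_def]; group

theorem DMod.conj_sm (b : Db' T F G) (u : F) (y : G) :
    b.x T.al u * b.X T.r1 y * (b.x T.al u)⁻¹ = b.sm u y * b.X T.r1 y := by
  rw [Db'.sm, commutatorElement_def, inv_mul_cancel_right]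

theorem DMod.sm_x (b : Db' T F G) (u a : F) : b.sm u (b.x T.r0 a) = b.x T.r0 (u * a) := by
  rw [Db'.sm, b.X_x, T.comm_eq b.model.toIsAB (A_al_r1 T), refl_al_r1]

theorem DMod.wd_r0 (T : Top R) : R.wd [T.a0] T.r0 = T.r1 := by rw [R.wd_singleton]; rfl

namespace Db'.Y1

variable (k : b.Y1)

theorem sq' {y : G} (hy : y ∈ k.Y) : y * y = 1 := by
  rw [k.sq y hy, k.κ0, zero_mul, (b.model.add _).zero]

theorem DMod_mem (u : F) {y : G} (hy : y ∈ k.Y) : b.sm u y ∈ k.Y := k.act u y hy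

theorem DMod_c1 {y y' : G} (hy : y ∈ k.Y) (hy' : y' ∈ k.Y) : Commute y (b.X T.r1 y') := by
  have := k.c1 _ _ (A_r0_r1 T) y hy y' hy'
  rwa [k.X_r0 hy] at this

theorem DMod_cx {y : G} (hy : y ∈ k.Y) {s : ι} (h : 0 ≤ R.A T.r0 s) (a : F) : Commute (b.x s a) y := by
  have := k.X_cx hy h a
  rwa [k.X_r0 hy] at this

/-- the action transported to any pair -/
theorem act' {r s : ι} (h : R.A r s = -1) (u : F) {y : G} (hy : y ∈ k.Y) :
    ⁅b.x r u, b.X s y⁆ = b.X (R.refl r s) (b.sm u y) := by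
  obtain ⟨g, v, m, h0, h1⟩ := b.pair1 (r := R.refl r s) (s := s) (by
    rw [T.sl.symm, Root.A_add (Root.wt_refl h), T.sl.symm s r, h, R.A_self]; norm_num)
  have ha := m.aut
  have h2 : v T.al = r := by
    have e1 := ha.refl T.al T.r1
    have e2 := ha.A T.al T.r1
    rw [refl_al_r1, h0, h1] at e1
    rw [h1, A_al_r1] at e2
    have e3 := congrArg R.wt e1
    rw [Root.wt_refl h, Root.wt_refl e2, add_left_inj] at e3
    exact (R.wt_inj e3).symm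
  rw [← h0, ← k.X_mv (k.DMod_mem u hy) m, k.X_r0 (k.DMod_mem u hy), Db'.sm, DMod.conj_comm,
    m.cj, k.X_mv hy m, h1, h2]

theorem sm_mul (u : F) {y y' : G} (hy : y ∈ k.Y) (hy' : y' ∈ k.Y) : b.sm u (y * y') = b.sm u y * b.sm u y' := by
  have _ := hy
  have h1 := DMod.conj_sm b u (y * y')
  rw [b.X_mul, ← conj_mul, DMod.conj_sm, DMod.conj_sm, mul_assoc, ← mul_assoc (b.X T.r1 y),
    ← (k.DMod_c1 (k.DMod_mem u hy') hy).eq, mul_assoc, ← mul_assoc] at h1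
  exact (mul_right_cancel h1).symm

theorem add_sm (u v : F) {y : G} (hy : y ∈ k.Y) : b.sm (u + v) y = b.sm u y * b.sm v y := by
  have h1 := DMod.conj_sm b (u + v) y
  have h2 := (k.DMod_cx (k.DMod_mem u hy) ((A_r0_al T).ge.trans' zero_le_one) v).eq
  rw [add_comm u, b.model.add, show b.x T.al v * b.x T.al u * b.X T.r1 y * (b.x T.al v * b.x T.al u)⁻¹ =
    b.x T.al v * (b.x T.al u * b.X T.r1 y * (b.x T.al u)⁻¹) * (b.x T.al v)⁻¹ by group, DMod.conj_sm,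
    ← mul_assoc, h2, mul_assoc, mul_assoc, ← mul_assoc (b.x T.al v), DMod.conj_sm, ← mul_assoc, add_comm v] at h1
  exact (mul_right_cancel h1).symm

theorem one_sm {y : G} (hy : y ∈ k.Y) : b.sm 1 y = y := by
  have hs := k.DMod_mem 1 hy
  have h1 := k.X_nw hy [T.a0] T.r0
  have h2 := k.act' (r := R.ng T.al) (s := T.r0) (by rw [R.A_ng_left, T.sl.symm, A_r0_al]) 1 hy
  rw [R.refl_ng_left, k.X_r0 hy, commutatorElement_def, mul_inv_eq_iff_eq_mul] at h2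
  have h3 := (k.DMod_cx hy ((A_r0_al T).ge.trans' zero_le_one) 1).eq
  have h4 : b.x T.al 1 * y * (b.x T.al 1)⁻¹ = y := by rw [h3, mul_inv_cancel_right]
  have h5 : b.X T.r1 y = b.sm 1 (b.sm 1 y) * y * b.X T.r1 (b.sm 1 y) := by
    rw [DMod.wd_r0, k.X_r0 hy, StRoot.nw_singleton, StRoot.nn, inv_one, CharTwo.neg_eq] at h1
    calc b.X T.r1 y = b.x T.al 1 * (b.x (R.ng T.al) 1 * (b.x T.al 1 * y * (b.x T.al 1)⁻¹) *
          (b.x (R.ng T.al) 1)⁻¹) * (b.x T.al 1)⁻¹ := by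
          rw [← h1]; simp only [Top.al]; group
      _ = _ := by
          rw [h4, h2, ← conj_mul, h4]
          erw [DMod.conj_sm]
          rw [mul_assoc, ← (k.DMod_c1 hy hs).eq, mul_assoc]
  have h6 : b.X T.r1 (y * b.sm 1 y) = b.X T.r0 (b.sm 1 (b.sm 1 y) * y) := by
    rw [k.X_r0 (mul_mem (k.DMod_mem 1 hs) hy), b.X_mul, h5, mul_assoc, ← b.X_mul, k.sq' hs]
    simp [Db'.X]
  have h7 := (k.X_disj (mul_mem hy hs) (mul_mem (k.DMod_mem 1 hs) hy) (fun e => by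
    have := A_r0_r1 T
    rw [e, R.A_self] at this
    omega) h6).1
  exact mul_left_cancel (h7.trans (k.sq' hy).symm)

theorem DMod_tor {m : F} (hm : m ≠ 0) :
    ∃ g ∈ b.L, ∀ v, ∀ y ∈ k.Y, g * b.sm v y * g⁻¹ = b.sm (m * v) y := by
  have st := b.model.toIsSt
  have a1 := A_r0_al T
  obtain ⟨h, hH, h1, h2⟩ := T.tor2 st (d := R.ng T.al) (fun e => by
    have := R.A_ng_right T.r0 T.al
    rw [e, R.A_self] at this
    omega) (fun e => by rw [R.ng_inj e, R.A_self] at a1; omega) hm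
  obtain ⟨χ, hχ⟩ := st.exists_chr hH
  have h3 : ∀ v, h * b.x (R.ng T.al) v * h⁻¹ = b.x (R.ng T.al) (m * v) := fun v => by
    rw [hχ.conj] at h2 ⊢
    rw [← b.model.x_inj _ h2, mul_one]
    rfl
  have hn := b.nw_mem [T.a0]
  have hg := mul_mem (mul_mem hn (b.HH_le hH)) (inv_mem hn)
  have e1 : R.wd [T.a0] (R.ng T.al) = T.al := by rw [R.wd_singleton]; exact R.refl_ng_self _
  refine ⟨_, hg, fun v y hy => ?_⟩
  have h4 := k.X_cD hy (r := T.r1) ⟨hg, mem_C1.2 (by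
    rw [← DMod.wd_r0, ← T.nw_conj st, conj_mul, conj_mul, (h1 1).eq])⟩
  rw [Db'.sm, DMod.conj_comm, h4.eq, mul_inv_cancel_right, Db'.sm, ← e1, ← T.nw_conj st, ← T.nw_conj st, ← h3]
  congr 1
  group

theorem mul_sm (u v : F) {y : G} (hy : y ∈ k.Y) : b.sm (u * v) y = b.sm u (b.sm v y) := by
  by_cases hu : u = 0
  · rw [hu, zero_mul, Db'.sm, Db'.sm, (b.model.add _).zero, commutatorElement_one_left, commutatorElement_one_left]
  obtain ⟨g, -, h⟩ := k.DMod_tor hu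
  have h1 := h 1 _ (k.DMod_mem v hy)
  rwa [k.one_sm (k.DMod_mem v hy), mul_one, h v y hy] at h1

include k in
theorem sm_x (u a : F) : b.sm u (b.x T.r0 a) = b.x T.r0 (u * a) :=
  have _ := k
  DMod.sm_x b u a

theorem p_sm (u : F) {y : G} (hy : y ∈ k.Y) : k.p (b.sm u y) = u * k.p y := by
  have ab := b.model.toIsAB
  have hs := k.DMod_mem u hy
  have a1 : 0 ≤ R.A T.r0 T.r1 := (A_r0_r1 T).ge.trans' zero_le_one
  have h1 := mem_C1.1 (b.LC (b.xL T.al u))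
  have h2 : b.x T.al u * b.t * (b.x T.al u)⁻¹ = b.t := by rw [h1, mul_inv_cancel_right]
  have h3 := T.conj_eq ab (A_al_r1 T) u (k.p y)
  have h4 := (k.DMod_cx hs a1 (k.p y)).eq
  have h5 : b.t * (b.x T.r1 (k.p y) * b.x T.r0 (u * k.p y)) =
      b.t * b.x T.r0 (k.p (b.sm u y)) * b.x T.r1 (k.p y) := by
    rw [refl_al_r1] at h3
    calc _ = b.x T.al u * (b.X T.r1 y * b.t * (b.X T.r1 y)⁻¹) * (b.x T.al u)⁻¹ := by
          rw [k.X_tr hy, ← conj_mul, h2, h3]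
      _ = (b.x T.al u * b.X T.r1 y * (b.x T.al u)⁻¹) * (b.x T.al u * b.t * (b.x T.al u)⁻¹) *
          (b.x T.al u * b.X T.r1 y * (b.x T.al u)⁻¹)⁻¹ := by group
      _ = b.sm u y * (b.X T.r1 y * b.t * (b.X T.r1 y)⁻¹) * (b.sm u y)⁻¹ := by
          rw [h2, DMod.conj_sm]; group
      _ = _ := by
          rw [k.X_tr hy, ← conj_mul, k.tr _ hs, ← h4, mul_inv_cancel_right]
  rw [← (T.commute ab a1 _ _).eq, ← mul_assoc] at h5
  exact (b.model.x_inj _ (mul_left_cancel (mul_right_cancel h5))).symm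

theorem hh_sm {y h : G} (hy : y ∈ k.Y) (hh : h ∈ R.HH b.x) {r : ι} {m : F}
    (e : h * b.x r 1 * h⁻¹ = b.x r m) : h * b.X r y * h⁻¹ = b.X r (b.sm m y) := by
  have hm : m ≠ 0 := fun h0 => by
    rw [h0, (b.model.add _).zero, mul_inv_eq_one, mul_eq_left] at e
    exact one_ne_zero (b.model.x_eq_one e)
  obtain ⟨g, hg, h1⟩ := k.DMod_tor hm
  have h2 := h1 1 _ (k.Z_le (x_mem_rsub b.x T.r0 1))
  have h3 := h1 1 y hy
  rw [DMod.sm_x, DMod.sm_x, mul_one, mul_one, mul_one] at h2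
  rw [k.one_sm hy, mul_one] at h3
  have hr := (b.gg_spec r).1
  rw [← b.X_x r, ← b.X_x r m, ← h2, Db'.X, Db'.X] at e
  have h4 := k.cD hy (g⁻¹ * ((b.gg r)⁻¹ * h * b.gg r)) ⟨b.L.mul_mem (b.L.inv_mem hg)
    (b.L.mul_mem (b.L.mul_mem (b.L.inv_mem hr) (b.HH_le hh)) hr), mem_C1.2 (by
      calc _ = g⁻¹ * (b.gg r)⁻¹ * (h * (b.gg r * b.x T.r0 1 * (b.gg r)⁻¹) * h⁻¹) * (h * b.gg r) := by group
        _ = _ := by rw [e]; group)⟩
  rw [← h3, Db'.X, Db'.X]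
  calc _ = b.gg r * g * (g⁻¹ * ((b.gg r)⁻¹ * h * b.gg r) * y) * ((b.gg r)⁻¹ * h⁻¹) := by group
    _ = b.gg r * g * y * g⁻¹ * (b.gg r)⁻¹ := by rw [h4]; group
    _ = _ := by group

end Db'.Y1

end Cfsg.Agent.OD
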