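import Mathlib
import Cfsg.Agent.OD.DMod

set_option autoImplicit false
set_option linter.unusedSectionVars false

namespace Cfsg.Agent.OD

open Cfsg Cfsg.Agent.GT Cfsg.Agent.Loc.Mss Cfsg.Agent.StdB Cfsg.Agent.Chev Cfsg.Agent.FE Cfsg.Agent.EE Subgroup
open scoped commutatorElement

variable {ι Nd M : Type} [AddCommGroup M] [Fintype Nd] [Fintype ι] [DecidableEq ι] {R : StRoot ι Nd M}
  {T : Top R} {F : Type} [Field F] [Finite F] [CharP F 2] {G : Type*} [Group G] [Finite G] {b : Db' T F G}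

theorem DPr_cm {g a c : G} (h1 : Commute g a) (h2 : Commute g c) : Commute g ⁅a, c⁆ :=
  ((h1.mul_right h2).mul_right h1.inv_right).mul_right h2.inv_right

theorem DPr_cA {g a c : G} (h1 : Commute g a) (h2 : Commute ⁅g, c⁆ a) (h3 : Commute ⁅g, c⁆ c) :
    Commute g ⁅a, c⁆ := by
  refine mul_inv_eq_iff_eq_mul.1 ?_
  calc g * ⁅a, c⁆ * g⁻¹ = g * a * g⁻¹ * ⁅g, c⁆ * c * (g * a * g⁻¹)⁻¹ * c⁻¹ * ⁅g, c⁆⁻¹ := by
        simp only [commutatorElement_def]; group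
    _ = ⁅g, c⁆ * ⁅a, c⁆ * ⁅g, c⁆⁻¹ := by
        rw [h1.eq, mul_inv_cancel_right, ← h2.eq, commutatorElement_def a c]; group
    _ = _ := by rw [(DPr_cm h2 h3).eq, mul_inv_cancel_right]

theorem DPr_exp {u v a c : G} (h1 : Commute u ⁅a, c⁆) (h2 : Commute v ⁅a, c⁆) : ⁅u * a, v * c⁆ =
    ⁅a, c⁆ * (⁅a, c⁆⁻¹ * (u * ⁅v, a⁆⁻¹ * u⁻¹) * ⁅a, c⁆ * ⁅u, v⁆ * (v * ⁅u, c⁆ * v⁻¹)) := by
  calc ⁅u * a, v * c⁆ = u * ⁅v, a⁆⁻¹ * u⁻¹ * (u * v * ⁅a, c⁆ * (u * v)⁻¹) * ⁅u, v⁆ * (v * ⁅u, c⁆ * v⁻¹) := by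
        simp only [commutatorElement_def]; group
    _ = _ := by rw [(h1.mul_left h2).eq]; group

theorem DPr_t {t y w : G} (t2 : t * t = 1) (h : y * t * y⁻¹ = t * w) : t * y * t⁻¹ = w * y := by
  calc t * y * t⁻¹ = t * (y * t * y⁻¹) * y := by rw [inv_eq_of_mul_eq_one_right t2]; group
    _ = _ := by rw [h, ← mul_assoc t, t2, one_mul]

/-- the product lies in `Y` -/
theorem Db'.Y1.prod_mem (k : b.Y1) {y y' : G} (hy : y ∈ k.Y) (hy' : y' ∈ k.Y) :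
    ⁅b.X T.al y, b.X T.r1 y'⁆ ∈ k.Y := by
  have ab := b.model.toIsSt.toIsAB
  have h1 : R.A T.r1 T.al = -1 := by rw [T.sl.symm, A_al_r1]
  have h2 : R.refl T.r1 T.al = T.r0 :=
    (T.sum_eq (by rw [← refl_al_r1, Root.wt_refl (A_al_r1 T), add_comm])).2
  have ya : ∀ e ∈ k.Y, Commute e (b.X T.al y) := fun e he => k.X_r0 he ▸ k.c1 _ _ (A_r0_al T) e he y hy
  have yb : ∀ e ∈ k.Y, Commute e (b.X T.r1 y') := fun e he => k.X_r0 he ▸ k.c1 _ _ (A_r0_r1 T) e he y' hy'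
  have yx : ∀ e ∈ k.Y, ∀ {s}, R.A T.r0 s = 1 → ∀ u, Commute (b.x s u) e := fun e he s hs u =>
    k.X_r0 he ▸ k.X_cx he (by omega) u
  have e1 : ∀ u, ⁅b.x T.al u, b.X T.r1 y'⁆ ∈ k.Y := fun u => k.act u y' hy'
  have e2 : ∀ u, ⁅b.x T.r1 u, b.X T.al y⁆ ∈ k.Y := fun u => by
    rw [k.act' h1 u hy, h2, Db'.sm, k.X_r0 (k.act u y hy)]; exact k.act u y hy
  have c1 : ∀ u, Commute (b.x T.al u) ⁅b.X T.al y, b.X T.r1 y'⁆ := fun u =>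
    DPr_cA (k.X_cx hy (by rw [R.A_self]; omega) u) (ya _ (e1 u)) (yb _ (e1 u))
  have c2 : ∀ u, Commute (b.x T.r1 u) ⁅b.X T.al y, b.X T.r1 y'⁆ := fun u => by
    rw [← commutatorElement_inv]
    exact (DPr_cA (k.X_cx hy' (by rw [R.A_self]; omega) u) (yb _ (e2 u)) (ya _ (e2 u))).inv_right
  have c3 : ∀ d ∈ b.L ⊓ C1 (b.x T.r1 1) ⊓ C1 (b.x T.al 1), Commute d ⁅b.X T.al y, b.X T.r1 y'⁆ := fun d hd =>
    DPr_cm (k.X_cD hy ⟨hd.1.1, hd.2⟩) (k.X_cD hy' hd.1)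
  have c4 : ∀ e ∈ k.Y, Commute e ⁅b.X T.al y, b.X T.r1 y'⁆ := fun e he => DPr_cm (ya e he) (yb e he)
  have nx : ∀ {s}, R.A T.r0 s = 1 → ∀ u, b.x s u ∈ 𝐍[k.Y] := fun hs u =>
    cent_le_norm _ (mem_cent.2 fun e he => (yx e he hs u).symm)
  obtain ⟨e, he, h3⟩ : ∃ e ∈ k.Y, b.t * ⁅b.X T.al y, b.X T.r1 y'⁆ * b.t⁻¹ = ⁅b.X T.al y, b.X T.r1 y'⁆ * e := by
    refine ⟨_, ?_, by rw [conjugate_commutatorElement, DPr_t b.t2 (k.X_tr hy _), DPr_t b.t2 (k.X_tr hy' _),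
      DPr_exp (c1 _) (c2 _)]⟩
    refine mul_mem (mul_mem (conj_mem_of_norm' (cent_le_norm _ (mem_cent.2 c4))
      (conj_mem_of_norm (nx (A_r0_al T) _) (inv_mem (e2 _)))) (k.Z_le ?_)) (conj_mem_of_norm (nx (A_r0_r1 T) _) (e1 _))
    rw [T.comm_eq ab (A_al_r1 T), refl_al_r1]
    exact x_mem_rsub _ _ _
  generalize ⁅b.X T.al y, b.X T.r1 y'⁆ = c at c1 c2 c3 c4 h3
  have h4 : k.p e = 0 := b.model.x_eq_one (r := T.r0) (by
    have h5 : b.t * (c * e) * b.t⁻¹ = c := by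
      rw [← h3, inv_eq_of_mul_eq_one_right b.t2]
      calc _ = b.t * b.t * c * (b.t * b.t) := by group
        _ = c := by rw [b.t2, one_mul, mul_one]
    rw [← conj_mul, h3, DPr_t b.t2 (k.tr e he), mul_assoc, mul_eq_left, ← mul_assoc,
      ← (k.comm he _ (k.Z_le (x_mem_rsub _ _ _))), mul_assoc, k.sq' he, mul_one] at h5
    exact h5)
  obtain ⟨w, rfl⟩ := (ab.add _).mem_rsub.1 (k.ker e he h4)
  obtain ⟨y0, h0, rfl⟩ := k.onto w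
  have cx : ∀ {s g}, (∀ u, Commute (b.x s u) g) → g ∈ 𝐂[rsub b.x s] := fun h => mem_cent.2 fun _ hv =>
    mem_C1.1 (rsub_le (fun u => mem_C1.2 (h u)) hv)
  have h5 : c * y0 ∈ ZZ T b.x ⊔ zpowers b.t := by
    refine b.c3 ⟨⟨⟨mem_C1.2 (mul_inv_eq_iff_eq_mul.1 ?_).symm, mem_cent.2 fun d hd => (c3 d hd).mul_right ?_⟩,
      cx fun u => (c1 u).mul_right (yx y0 h0 (A_r0_al T) u)⟩, cx fun u => (c2 u).mul_right (yx y0 h0 (A_r0_r1 T) u)⟩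
    · rw [← conj_mul, h3, DPr_t b.t2 (k.tr y0 h0), mul_assoc, ← mul_assoc (b.x _ _), T.x_sq ab, one_mul]
    · refine k.cD h0 d ⟨hd.1.1, mem_C1.2 ?_⟩
      rw [← mul_one (1 : F), ← refl_al_r1, ← T.comm_eq ab (A_al_r1 T)]
      exact DPr_cm (mem_C1.1 hd.2) (mem_C1.1 hd.1.2)
  obtain ⟨z, hz, s, hs, h6⟩ := (mem_sup_norm (zpowers_le.2 (cent_le_norm _ (mem_cent.2 fun z hz =>
    mem_C1.1 (b.LC (rsub_le (b.xL _) hz)))))).1 h5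
  rcases (mem_zpowers_two b.t2).1 hs with rfl | rfl
  · exact (mul_mem_cancel_right h0).1 (h6 ▸ mul_mem (k.Z_le hz) (one_mem _))
  · obtain ⟨y1, h7, h8⟩ := k.onto 1
    have h9 : Commute y1 (z * b.t) := h6 ▸ (c4 y1 h7).mul_right (k.comm h0 y1 h7)
    have h10 := k.tr y1 h7
    rw [← inv_mul_cancel_left z b.t, ((Commute.inv_right (k.comm (k.Z_le hz) y1 h7)).mul_right h9).eq,
      mul_inv_cancel_right, left_eq_mul, h8] at h10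
    exact absurd (b.model.x_eq_one h10) one_ne_zero

end Cfsg.Agent.OD
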