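import Mathlib
import Cfsg.Agent.OD.DW

set_option autoImplicit false
set_option linter.unusedSectionVars false

namespace Cfsg.Agent.OD

open Cfsg Cfsg.Agent.GT Cfsg.Agent.Loc.Mss Cfsg.Agent.StdB Cfsg.Agent.Chev Cfsg.Agent.FE Cfsg.Agent.EE Subgroup
open scoped commutatorElement

variable {ι Nd M : Type} [AddCommGroup M] [Fintype Nd] [Fintype ι] [DecidableEq ι] {R : StRoot ι Nd M}
  {T : Top R} {F : Type} [Field F] [Finite F] [CharP F 2] {G : Type*} [Group G] [Finite G] {b : Db' T F G}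

namespace DR1

open DW

theorem wt_sub (T : Top R) {r s : ι} (h : R.A r s = 1) : R.wt (R.refl s r) = R.wt r - R.wt s := by
  rw [R.wt_refl', T.sl.symm, h, one_smul]

theorem A_sub (T : Top R) {r s : ι} (h : R.A r s = 1) (c : ι) : R.A c (R.refl s r) = R.A c r - R.A c s := by
  rw [R.A_def, wt_sub T h, map_sub]; rfl

theorem al_eq (T : Top R) : R.refl T.r1 T.r0 = T.al := by
  have h := Root.wt_refl (A_al_r1 T)
  rw [refl_al_r1] at h
  exact R.wt_inj (by rw [wt_sub T (A_r0_r1 T), h, add_sub_cancel_right])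

theorem XX (k : b.Y0) (h : Nat.card F = 2) {y : G} (hy : y ∈ k.Y) (r : ι) : b.X r y * b.X r y = 1 := by
  rw [← b.X_mul, k.sq y hy, k.two h, zero_mul, b.X_x, (b.model.add r).zero]

/-- the configuration with `t` in the conjugation formula is contradictory -/
theorem not_t (k : b.Y0) (h : Nat.card F = 2) {y w : G} (hy : y ∈ k.Y) (hp : k.p y = 1) (hw : w ∈ WW T b.x)
    (e : b.x T.al 1 * b.X T.r1 y * (b.x T.al 1)⁻¹ = y * b.X T.r1 y * (w * b.t)) : False := by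
  have ab := b.model.toIsAB
  have yy : y * y = 1 := by simpa only [k.X_r0 hy] using XX k h hy T.r0
  have ay : Commute (b.x T.al 1) y := cy k hy (by rw [A_r0_al]; norm_num) 1
  have hc : ∀ a, b.x T.al 1 * b.x T.r1 a * (b.x T.al 1)⁻¹ = b.x T.r1 a * b.x T.r0 a := fun a => by
    rw [T.conj_eq ab (A_al_r1 T), refl_al_r1, one_mul]
  have h0 : ∀ a, Commute (b.x T.al 1) (b.x T.r0 a) := fun a =>
    T.commute ab (by rw [T.sl.symm, A_r0_al]; norm_num) 1 a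
  have at' : Commute (b.x T.al 1) b.t := DW.tL (b.xL _ _)
  obtain ⟨c, f, rfl⟩ := mem_W hw
  have hf : f = 0 := by
    have e2 : b.X T.r1 y = b.x T.al 1 * (b.x T.al 1 * b.X T.r1 y * (b.x T.al 1)⁻¹) * (b.x T.al 1)⁻¹ := by
      rw [show ∀ a y : G, a * (a * y * a⁻¹) * a⁻¹ = a * a * y * (a * a)⁻¹ from fun a y => by group, x_sq]; group
    have tw := (DW.tL (W_le b (mul_mem (x0_mem c) (mul_mem (x1_mem f) (x0_mem f))))).eq
    rw [e] at e2
    have e3 : b.X T.r1 y = b.X T.r1 y * (b.x T.r0 c * b.x T.r1 f * (b.x T.r0 c * (b.x T.r1 f * b.x T.r0 f))) := by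
      calc _ = (b.x T.al 1 * y) * (b.x T.al 1)⁻¹ * (b.x T.al 1 * b.X T.r1 y * (b.x T.al 1)⁻¹) *
            ((b.x T.al 1 * b.x T.r0 c) * (b.x T.al 1)⁻¹ * (b.x T.al 1 * b.x T.r1 f * (b.x T.al 1)⁻¹)) *
            (b.x T.al 1 * b.t) * (b.x T.al 1)⁻¹ := by rw [e2.symm.symm]; nth_rw 1 [e2]; group
        _ = y * y * b.X T.r1 y * (b.x T.r0 c * b.x T.r1 f) *
            (b.t * (b.x T.r0 c * (b.x T.r1 f * b.x T.r0 f))) * b.t := by
          rw [ay.eq, e, (h0 c).eq, hc, at'.eq]; group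
        _ = _ := by rw [← tw, yy, mul_assoc _ _ b.t, mul_assoc _ b.t, b.t2]; group
    rw [← mul_assoc (b.x T.r0 c) (b.x T.r1 f) (b.x T.r0 f), ← mul_assoc (_ * _), W_sq hw, one_mul, left_eq_mul] at e3
    exact b.model.x_eq_one e3
  rw [hf, (b.model.add _).zero, mul_one] at e
  have tr : ∀ {r s}, R.A r s = 1 → b.x (R.refl s r) 1 * b.X s y * (b.x (R.refl s r) 1)⁻¹ =
      b.X r y * b.X s y * (b.x r c * b.t) := fun {r s} hrs => by
    obtain ⟨g, v, m, rfl, rfl⟩ := b.pair1 hrs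
    have n0 := k.X_mv hy m T.r0
    rw [k.X_r0 hy] at n0
    rw [← m.aut.refl, al_eq, ← m.cj, ← m.cj, ← n0, ← k.X_mv hy m]
    calc _ = g * (b.x T.al 1 * b.X T.r1 y * (b.x T.al 1)⁻¹) * g⁻¹ := by group
      _ = g * y * b.X T.r1 y * b.x T.r0 c * (b.t * g⁻¹) := by rw [e]; group
      _ = _ := by rw [← (DW.tL (inv_mem m.mem)).eq]; group
  obtain ⟨δ, d0, d1⟩ := b.d2
  have s1 : R.wt (R.refl δ T.r0) = R.wt T.al + R.wt (R.refl δ T.r1) := by
    rw [← al_eq, wt_sub T d0, wt_sub T d1, wt_sub T (A_r0_r1 T)]; abel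
  have s2 := T.conj_eq ab (T.sum_eq s1).1 (1 : F) 1
  rw [(T.sum_eq s1).2, one_mul] at s2
  have t0 := tr d0
  have t1 := tr d1
  rw [k.X_r0 hy] at t0
  have d0' : 0 ≤ R.A δ T.r0 := by rw [T.sl.symm, d0]; norm_num
  have d1' : 0 ≤ R.A δ T.r1 := by rw [T.sl.symm, d1]; norm_num
  have c1 : Commute (b.x T.al 1) (b.X δ y) := k.X_cx hy (by
    rw [← al_eq, A_sub T (A_r0_r1 T), T.sl.symm δ, T.sl.symm δ, d0, d1]; norm_num) 1
  have b0 : 0 ≤ R.A T.r0 (R.refl δ T.r1) := by rw [A_sub T d1, d0, A_r0_r1]; norm_num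
  have c2 : Commute (b.x (R.refl δ T.r1) 1) y := cy k hy b0 1
  have c3 : Commute (b.x (R.refl δ T.r1) 1) (b.x T.r0 c) := (T.commute ab b0 c 1).symm
  have c4 : Commute (b.x (R.refl δ T.r1) 1) b.t := DW.tL (b.xL _ _)
  have c5 : b.t * b.X δ y = b.X δ y * (b.t * b.x δ 1) := by
    have := k.X_tr hy δ
    rw [hp] at this
    rw [← this, inv_eq_of_mul_eq_one_right (XX k h hy δ), ← mul_assoc, ← mul_assoc, XX k h hy δ, one_mul]
  have c6 : Commute (b.x T.r0 c) (b.X δ y) := k.X_cx hy d0' c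
  have l1 : b.x T.al 1 * b.x (R.refl δ T.r1) 1 * (b.x T.al 1)⁻¹ * b.X δ y *
      (b.x T.al 1 * b.x (R.refl δ T.r1) 1 * (b.x T.al 1)⁻¹)⁻¹ =
      y * b.X T.r1 y * b.X δ y * (b.x T.r0 c * b.t * (b.x δ 1 * (b.x T.r1 c * b.x T.r0 c) * b.t)) := by
    calc _ = b.x T.al 1 * (b.x (R.refl δ T.r1) 1 * ((b.x T.al 1)⁻¹ * b.X δ y) * b.x T.al 1 *
          (b.x (R.refl δ T.r1) 1)⁻¹) * (b.x T.al 1)⁻¹ := by group
      _ = b.x T.al 1 * (b.x (R.refl δ T.r1) 1 * b.X δ y * (b.x (R.refl δ T.r1) 1)⁻¹) * (b.x T.al 1)⁻¹ := by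
        rw [c1.inv_left.eq]; group
      _ = (b.x T.al 1 * b.X T.r1 y * (b.x T.al 1)⁻¹) * (b.x T.al 1 * b.X δ y) * (b.x T.al 1)⁻¹ *
          (b.x T.al 1 * b.x T.r1 c * (b.x T.al 1)⁻¹) * (b.x T.al 1 * b.t) * (b.x T.al 1)⁻¹ := by rw [t1]; group
      _ = y * b.X T.r1 y * b.x T.r0 c * (b.t * b.X δ y) * (b.x T.r1 c * b.x T.r0 c) * b.t := by
        rw [e, c1.eq, hc, at'.eq]; group
      _ = y * b.X T.r1 y * (b.x T.r0 c * b.X δ y) * (b.t * b.x δ 1) * (b.x T.r1 c * b.x T.r0 c) * b.t := by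
        rw [c5]; group
      _ = _ := by rw [c6.eq]; group
  have l2 : b.x (R.refl δ T.r1) 1 * b.x (R.refl δ T.r0) 1 * b.X δ y *
      (b.x (R.refl δ T.r1) 1 * b.x (R.refl δ T.r0) 1)⁻¹ =
      y * b.X T.r1 y * b.X δ y * (b.x T.r1 c * b.t * (b.x T.r0 c * b.t)) := by
    calc _ = b.x (R.refl δ T.r1) 1 * (b.x (R.refl δ T.r0) 1 * b.X δ y * (b.x (R.refl δ T.r0) 1)⁻¹) *
          (b.x (R.refl δ T.r1) 1)⁻¹ := by group
      _ = (b.x (R.refl δ T.r1) 1 * y) * (b.x (R.refl δ T.r1) 1)⁻¹ *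
          (b.x (R.refl δ T.r1) 1 * b.X δ y * (b.x (R.refl δ T.r1) 1)⁻¹) *
          (b.x (R.refl δ T.r1) 1 * b.x T.r0 c) * (b.x (R.refl δ T.r1) 1)⁻¹ *
          (b.x (R.refl δ T.r1) 1 * b.t) * (b.x (R.refl δ T.r1) 1)⁻¹ := by rw [t0]; group
      _ = _ := by rw [c2.eq, t1, c3.eq, c4.eq]; group
  have tt : ∀ {u v}, u ∈ b.L → v ∈ b.L → u * b.t * (v * b.t) = u * v := fun {u v} _ hv => by
    rw [(DW.tL hv).eq, mul_assoc, ← mul_assoc b.t, b.t2, one_mul]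
  rw [s2, l2, mul_right_inj, tt (b.xL _ _) (b.xL _ _),
    tt (b.xL _ _) (mul_mem (b.xL _ _) (mul_mem (b.xL _ _) (b.xL _ _))), ← mul_assoc, right_eq_mul] at l1
  have := b.model.root_eq (one_ne_zero) ((eq_inv_of_mul_eq_one_right l1).trans (Root.x_inv ab _ _))
  rw [this, R.A_self] at d0
  omega

end DR1

open DW in
theorem Db'.Y0.c1_two (k : b.Y0) (h : Nat.card F = 2) {y y' : G} (hy : y ∈ k.Y) (hy' : y' ∈ k.Y) :
    Commute y (b.X T.r1 y') := by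
  have hq : ∀ a : F, a ≠ 0 → a = 1 := fun a ha => ((Nat.card_eq_two_iff' 0).1 h).unique ha one_ne_zero
  have hZ : ∀ {u}, u ∈ ZZ T b.x → Commute y (b.X T.r1 u) := fun hu => by
    obtain ⟨a, rfl⟩ := (b.model.add _).mem_rsub.1 hu
    rw [b.X_x]
    exact (W_c0 k hy (x1_mem a)).symm
  by_cases p0 : k.p y = 0
  · exact W_c1 k hy' (mem_sup_left (k.ker y hy p0))
  by_cases p0' : k.p y' = 0
  · exact hZ (k.ker y' hy' p0')
  have hd : ∀ {u}, u ∈ k.Y → k.p u = 1 → y⁻¹ * u ∈ ZZ T b.x := fun {u} hu e => k.ker _ (mul_mem (inv_mem hy) hu) (by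
    have e3 := k.p_mul hy (mul_mem (inv_mem hy) hu)
    rw [mul_inv_cancel_left, e, hq _ p0] at e3
    exact left_eq_add.1 e3)
  rw [← mul_inv_cancel_left y y', b.X_mul]
  refine Commute.mul_right ?_ (hZ (hd hy' (hq _ p0')))
  obtain ⟨y0, h0, e0, v, hv, e⟩ := k.conj_W hy 1
  have hz := mem_sup_left (T := rsub b.x T.r1) (hd h0 (by rw [e0, one_mul, hq _ p0]))
  rw [← mul_inv_cancel_left y y0, mul_assoc y, (W_c1 k hy hz).eq, ← mul_assoc y, mul_assoc _ _ v] at e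
  rcases mem_Wt (mul_mem (mem_sup_left hz) hv) with hw | ⟨w, hw, e'⟩
  · generalize y⁻¹ * y0 * v = w at hw e
    have yy : y * y = 1 := by simpa only [k.X_r0 hy] using DR1.XX k h hy T.r0
    have e2 := congrArg (fun g => g * g) e
    simp only [conj_mul, DR1.XX k h hy, mul_one, mul_inv_cancel] at e2
    rw [((W_c0 k hy hw).mul_right (W_c1 k hy hw)).mul_mul_mul_comm, W_sq hw, mul_one] at e2
    have e3 := eq_inv_of_mul_eq_one_left e2.symm
    rwa [mul_inv_rev, inv_eq_of_mul_eq_one_right yy, inv_eq_of_mul_eq_one_right (DR1.XX k h hy T.r1)] at e3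
  · exact (DR1.not_t k h hy (hq _ p0) hw (e' ▸ e)).elim

end Cfsg.Agent.OD
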