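import Mathlib
import Cfsg.Agent.OD.DR1
import Cfsg.Agent.OD.DMod

/-! The commuting relations of the doubled root subgroups. -/

set_option autoImplicit false
set_option linter.unusedSectionVars false

namespace Cfsg.Agent.OD

open Cfsg Cfsg.Agent.GT Cfsg.Agent.Loc.Mss Cfsg.Agent.StdB Cfsg.Agent.Chev Cfsg.Agent.FE Cfsg.Agent.EE Subgroup
open scoped commutatorElement

variable {ι Nd M : Type} [AddCommGroup M] [Fintype Nd] [Fintype ι] [DecidableEq ι] {R : StRoot ι Nd M}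
  {T : Top R} {F : Type} [Field F] [Finite F] [CharP F 2] {G : Type*} [Group G] [Finite G] {b : Db' T F G}

namespace DR2

theorem ab (b : Db' T F G) : R.IsAB b.x := b.model.toIsSt.toIsAB

theorem dec {s : ι} (h : 0 ≤ R.A T.r0 s) {v : G} (hv : v ∈ rsub b.x T.r0 ⊔ rsub b.x s ⊔ zpowers b.t) :
    ∃ a c, v = b.x T.r0 a * b.x s c ∨ v = b.x T.r0 a * b.x s c * b.t := by
  have l : ∀ r, rsub b.x r ≤ C1 b.t := fun r g hg => by
    obtain ⟨a, rfl⟩ := ((ab b).add r).mem_rsub.1 hg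
    exact b.LC (b.xL r a)
  obtain ⟨w, hw, e, ⟨n, rfl⟩, rfl⟩ := (mem_sup_norm (norm_of_cent (zpowers_le.2 (mem_cent.2 fun g hg =>
    mem_C1.1 (sup_le (l _) (l _) hg))))).1 hv
  obtain ⟨w0, h0, w1, h1, rfl⟩ := (mem_sup_norm (norm_of_cent fun g hg => mem_cent.2 fun g' hg' => by
    obtain ⟨a, rfl⟩ := ((ab b).add _).mem_rsub.1 hg
    obtain ⟨c, rfl⟩ := ((ab b).add _).mem_rsub.1 hg'
    exact T.commute (ab b) h c a)).1 hw
  obtain ⟨a, rfl⟩ := ((ab b).add _).mem_rsub.1 h0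
  obtain ⟨c, rfl⟩ := ((ab b).add _).mem_rsub.1 h1
  refine ⟨a, c, ?_⟩
  have t2 : b.t ^ (2 : ℤ) = 1 := by rw [zpow_two, b.t2]
  rcases Int.even_or_odd' n with ⟨m, rfl | rfl⟩
  · exact .inl (by simp [zpow_mul, t2])
  · exact .inr (by simp [zpow_add, zpow_mul, t2])

theorem not_t (k : b.Y0) (r : ι) (h : ∀ y ∈ k.Y, Commute (b.X r y) b.t) : False := by
  obtain ⟨y, hy, e⟩ := k.onto 1
  have := k.X_tr hy r
  rw [(h y hy).eq, mul_inv_cancel_right, e, left_eq_mul] at this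
  exact one_ne_zero (b.model.x_eq_one this)

theorem base (k : b.Y0) {y y' : G} (hy : y ∈ k.Y) (hy' : y' ∈ k.Y) : Commute y (b.X T.r1 y') := by
  by_cases h : Nat.card F = 2
  exacts [k.c1_two h hy hy', k.c1_big h hy hy']

theorem cx (k : b.Y0) {y : G} (hy : y ∈ k.Y) {s : ι} (h : 0 ≤ R.A T.r0 s) (a : F) : Commute (b.x s a) y :=
  k.X_r0 hy ▸ k.X_cx hy h a

theorem tw (k : b.Y0) {y A A' : G} (hy : y ∈ k.Y) (hA : A' ∈ k.Y) {u u' c : F}
    (h : b.x T.al u * b.X T.r1 y * (b.x T.al u)⁻¹ = A * b.X T.r1 y * b.x T.r1 c)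
    (h' : b.x T.al u' * b.X T.r1 y * (b.x T.al u')⁻¹ = A' * b.X T.r1 y * b.x T.r1 c) :
    b.x T.al u * b.x T.al u' * b.X T.r1 y * (b.x T.al u * b.x T.al u')⁻¹ =
      A' * A * b.x T.r0 (u * c) * b.X T.r1 y := by
  rw [show ∀ g g' B : G, g * g' * B * (g * g')⁻¹ = g * (g' * B * g'⁻¹) * g⁻¹ from fun _ _ _ => by group, h', ← conj_mul,
    ← conj_mul, (cx k hA (by rw [A_r0_al]; decide) u).eq, mul_inv_cancel_right, h, T.conj_eq (ab b) (A_al_r1 T),
    refl_al_r1, mul_assoc (A' * A), (k.X_cx hy (by rw [T.sl.symm, A_r0_r1]; decide) _).eq,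
    show ∀ B C D : G, A' * (A * B * C) * (C * D) = A' * A * (B * (C * C) * D) from fun _ _ _ => by group,
    T.x_sq (ab b), mul_one]

theorem cj1 (k : b.Y0) {y : G} (hy : y ∈ k.Y) (u : F) : ∃ y0 ∈ k.Y, ∃ c, u * c = u * (k.κ * k.p y) ∧
    b.x T.al u * b.X T.r1 y * (b.x T.al u)⁻¹ = y0 * b.X T.r1 y * b.x T.r1 c := by
  obtain ⟨y0, h0, e0, v, hv, e⟩ := k.conj_W hy u
  have a0 : 0 ≤ R.A T.r0 T.r0 := by rw [R.A_self]; decide
  have a1 : 0 ≤ R.A T.r0 T.r1 := by rw [A_r0_r1]; decide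
  have a2 : 0 ≤ R.A T.r0 T.al := by rw [A_r0_al]; decide
  have a3 : 0 ≤ R.A T.r1 T.r0 := T.sl.symm _ _ ▸ a1
  obtain ⟨a, c, rfl | rfl⟩ := dec a1 hv
  · have m : y0 * b.x T.r0 a ∈ k.Y := mul_mem h0 (k.Z_le (x_mem_rsub _ _ _))
    have e' : b.x T.al u * b.X T.r1 y * (b.x T.al u)⁻¹ = y0 * b.x T.r0 a * b.X T.r1 y * b.x T.r1 c := by
      rw [e, mul_assoc y0 (b.x _ _), (k.X_cx hy a3 a).eq]; simp only [mul_assoc]
    refine ⟨_, m, c, ?_, e'⟩
    have q := k.sq _ m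
    rw [k.p_mul h0 (k.Z_le (x_mem_rsub _ _ _)), k.p_x, add_zero, e0] at q
    generalize y0 * b.x T.r0 a = A at *
    have s := tw k hy m e' e'
    rw [T.x_sq (ab b), one_mul, inv_one, mul_one, q, right_eq_mul, ← (ab b).add] at s
    have := b.model.x_eq_one s
    rw [CharTwo.add_eq_zero] at this
    rw [← this]; ring
  · refine (not_t k T.r0 fun y' h' => ?_).elim
    rw [k.X_r0 h']
    have c1 : Commute y' (b.x T.al u * b.X T.r1 y * (b.x T.al u)⁻¹) :=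
      ((cx k h' a2 u).symm.mul_right (base k h' hy)).mul_right (cx k h' a2 u).symm.inv_right
    have c2 : Commute y' (y0 * b.X T.r1 y * (b.x T.r0 a * b.x T.r1 c)) :=
      ((show Commute y' y0 from mem_cent.1 (k.comm h0) _ h').mul_right (base k h' hy)).mul_right
        ((cx k h' a0 a).symm.mul_right (cx k h' a1 c).symm)
    have := c2.inv_right.mul_right c1
    rwa [e, ← mul_assoc _ _ b.t, inv_mul_cancel_left] at this

theorem ne01 : T.r0 ≠ T.r1 := fun e => by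
  have := A_r0_r1 T
  rw [← e, R.A_self] at this
  exact absurd this (by decide)

theorem κ0 (k : b.Y0) : k.κ = 0 := by
  by_cases h : Nat.card F = 2
  · exact k.two h
  obtain ⟨e, e0, e1⟩ : ∃ e : F, e ≠ 0 ∧ e ≠ 1 := by
    by_contra! n
    exact h ((Nat.card_eq_two_iff' 0).2 ⟨1, one_ne_zero, n⟩)
  obtain ⟨y, hy, p⟩ := k.onto 1
  obtain ⟨A, hA, c, c1, h1⟩ := cj1 k hy 1
  obtain ⟨A', hA', c', c2, h2⟩ := cj1 k hy e
  obtain ⟨A'', hA'', c'', c3, h3⟩ := cj1 k hy (1 + e)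
  rw [mul_right_inj' one_ne_zero] at c1
  rw [mul_right_inj' e0] at c2
  rw [mul_right_inj' fun q => e1 (CharTwo.add_eq_zero.1 q).symm] at c3
  rw [p, mul_one] at c1 c2 c3
  subst c1 c2 c3
  have s := tw k hy hA' h1 h2
  rw [← (ab b).add, h3, mul_assoc A'', ← (k.X_cx hy (by rw [R.A_self]; decide) _).eq, ← mul_assoc, mul_left_inj,
    ← eq_inv_mul_iff_mul_eq, ← b.X_x T.r1] at s
  have m := mul_mem (inv_mem hA'') (mul_mem (mul_mem hA' hA) (k.Z_le (x_mem_rsub b.x T.r0 (1 * k.κ))))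
  exact b.model.x_eq_one (k.X_disj m (k.Z_le (x_mem_rsub _ _ _)) ne01 ((k.X_r0 m).trans s.symm)).2

theorem perp0 (k : b.Y1) {s : ι} (h : R.A T.r0 s = 0) {y y' : G} (hy : y ∈ k.Y) (hy' : y' ∈ k.Y) :
    ∃ f, ⁅y, b.X s y'⁆ = b.x s f := by
  have hs : R.A s T.r0 = 0 := T.sl.symm _ _ ▸ h
  have a0 : 0 ≤ R.A T.r0 T.r0 := by rw [R.A_self]; decide
  obtain ⟨β, b1, b2⟩ := b.pv s h
  rw [T.sl.symm] at b1
  have g1 : R.A (R.refl β T.r0) T.r0 = 1 := by rw [R.A_refl_left', R.A_self, T.sl.symm, b1]; decide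
  have g2 : R.A (R.refl β T.r0) s = 1 := by rw [R.A_refl_left', h, T.sl.symm T.r0, b1, b2]; decide
  have cg : ∀ z ∈ k.Y, Commute (b.X (R.refl β T.r0) z) ⁅y, b.X s y'⁆ := fun z hz => by
    have p := k.c1 _ _ g1 z hz y hy
    have q := k.c1 _ _ g2 z hz y' hy'
    rw [k.X_r0 hy] at p
    exact ((p.mul_right q).mul_right p.inv_right).mul_right q.inv_right
  have t1 : ∀ r, ∀ z ∈ k.Y, b.t⁻¹ * b.X r z * b.t⁻¹⁻¹ = b.x r (k.p z) * b.X r z := fun r z hz => by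
    rw [inv_inv, mul_assoc, mul_inv_eq_iff_eq_mul.1 (k.X_tr hz r)]; group
  have ct : ⁅y, b.X s y'⁆ ∈ C1 b.t := by
    have p := t1 T.r0 y hy
    rw [k.X_r0 hy] at p
    have q := map_commutatorElement (MulAut.conj b.t⁻¹) y (b.X s y')
    simp only [MulAut.conj_apply] at q
    rw [p, t1 s y' hy'] at q
    have c1 := cx k.toY0 hy a0 (k.p y)
    have c2 := k.X_cx hy' hs.ge (k.p y)
    have c3 := cx k.toY0 hy h.ge (k.p y')
    have c4 := k.X_cx hy' (r := s) (s := s) (by rw [R.A_self]; decide) (k.p y')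
    have c5 := T.commute (ab b) h.ge (k.p y) (k.p y')
    generalize b.x T.r0 (k.p y) = A at *
    generalize b.x s (k.p y') = C at *
    generalize b.X s y' = B at *
    have : ⁅A * y, C * B⁆ = ⁅y, B⁆ := by
      calc ⁅A * y, C * B⁆ = A * (y * (C * B)) * y⁻¹ * A⁻¹ * B⁻¹ * C⁻¹ := by rw [commutatorElement_def]; group
        _ = C * (A * (y * B * y⁻¹) * A⁻¹ * B⁻¹) * C⁻¹ := by
          rw [← mul_assoc y, ← c3.eq, mul_assoc C, ← mul_assoc A, c5.eq]; group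
        _ = _ := by
          rw [((c1.mul_right c2).mul_right c1.inv_right).eq, mul_inv_cancel_right,
            (((c3.mul_right c4).mul_right c3.inv_right).mul_right c4.inv_right).eq, mul_inv_cancel_right]
          rfl
    rw [this, inv_inv, mul_assoc, inv_mul_eq_iff_eq_mul] at q
    exact mem_C1.2 q
  obtain ⟨a, c, e | e⟩ := dec h.ge (b.c0 s h ⟨ct, mem_cent.2 fun d hd => by
    have p : Commute d y := mem_cent.1 (k.cD hy) d hd.1
    have q := k.X_cD hy' (r := s) ⟨hd.1.1, hd.2⟩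
    exact ((p.mul_right q).mul_right p.inv_right).mul_right q.inv_right⟩)
  · refine ⟨c, ?_⟩
    have p := k.act' b1 1 hy
    rw [k.X_r0 hy, commutatorElement_def, mul_inv_eq_iff_eq_mul] at p
    have q := map_commutatorElement (MulAut.conj (b.x β 1)) y (b.X s y')
    simp only [MulAut.conj_apply] at q
    have m : b.sm 1 y ∈ k.Y := k.act 1 y hy
    have b3 : 0 ≤ R.A s β := by rw [T.sl.symm, b2]; decide
    rw [p, (k.X_cx hy' b3 1).eq, mul_inv_cancel_right, show ∀ A B : G, ⁅A * y, B⁆ = A * ⁅y, B⁆ * A⁻¹ * ⁅A, B⁆ from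
      fun _ _ => by simp only [commutatorElement_def]; group, (cg _ m).eq, mul_inv_cancel_right,
      (k.c1 _ _ g2 _ m y' hy').commutator_eq, mul_one, e, ← conj_mul, T.conj_eq (ab b) b1,
      (T.commute (ab b) (b2.ge.trans' zero_le_one) 1 c).eq, mul_inv_cancel_right, mul_left_inj, mul_eq_left,
      one_mul] at q
    rw [e, b.model.x_eq_one q, ((ab b).add _).zero, one_mul]
  · refine (not_t k.toY0 (R.refl β T.r0) fun z hz => ?_).elim
    have := ((k.X_cx hz (g1.ge.trans' zero_le_one) a).symm.mul_right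
      (k.X_cx hz (g2.ge.trans' zero_le_one) c).symm).inv_right.mul_right (cg z hz)
    rwa [e, inv_mul_cancel_left] at this

theorem perp (k : b.Y1) {r s : ι} (h : R.A r s = 0) {y y' : G} (hy : y ∈ k.Y) (hy' : y' ∈ k.Y) :
    ∃ f, ⁅b.X r y, b.X s y'⁆ = b.x s f := by
  obtain ⟨L, rfl⟩ := T.trans r
  obtain ⟨s, rfl⟩ := (R.wd L).surjective s
  obtain ⟨f, e⟩ := perp0 k (((R.isAut_wd L).A _ _).symm.trans h) hy hy'
  refine ⟨f, ?_⟩
  rw [← k.X_nw hy, ← k.X_nw hy', ← T.nw_conj b.model.toIsSt, ← e, k.X_r0 hy]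
  exact (map_commutatorElement (MulAut.conj (R.nw b.x L)) _ _).symm

end DR2

open DR2

theorem Db'.Y0.y1 (k : b.Y0) : Nonempty b.Y1 := by
  refine ⟨⟨k, κ0 k, fun r s h y hy y' hy' => ?_, fun u y hy => ?_⟩⟩
  · obtain ⟨g, v, m, rfl, rfl⟩ := b.pair1 h
    rw [← k.X_mv hy m, ← k.X_mv hy' m, k.X_r0 hy]
    exact (base k hy hy').map (MulAut.conj g)
  · obtain ⟨A, hA, c, c1, e⟩ := cj1 k hy u
    rw [κ0 k, zero_mul, mul_zero, mul_eq_zero] at c1
    rcases c1 with rfl | rfl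
    · rw [((ab b).add _).zero, commutatorElement_one_left]
      exact one_mem _
    · rwa [commutatorElement_def, e, ((ab b).add _).zero, mul_one, mul_inv_cancel_right]

theorem Db'.Y1.y2 (k : b.Y1) : Nonempty b.Y2 := by
  refine ⟨⟨k, fun r s h y hy y' hy' => ?_⟩⟩
  obtain ⟨f, e⟩ := perp k h hy hy'
  obtain ⟨f', e'⟩ := perp k (T.sl.symm _ _ ▸ h) hy' hy
  rw [← commutatorElement_inv, e, Root.x_inv (ab b)] at e'
  rw [← commutatorElement_eq_one_iff_commute, e]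
  by_cases p : f = 0
  · rw [p, ((ab b).add _).zero]
  · rw [b.model.root_eq p e', R.A_self] at h
    exact absurd h (by decide)

end Cfsg.Agent.OD
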