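import Mathlib
import Cfsg.Agent.OD.DAbs
import Cfsg.Agent.EE.Bas

set_option autoImplicit false
set_option linter.unusedSectionVars false

namespace Cfsg.Agent.OD

open Cfsg Cfsg.Agent.GT Cfsg.Agent.Loc.Mss Cfsg.Agent.StdB Cfsg.Agent.Chev Cfsg.Agent.FE Cfsg.Agent.EE Subgroup
open scoped commutatorElement

variable {ι Nd M : Type} [AddCommGroup M] [Fintype Nd] [Fintype ι] [DecidableEq ι] {R : StRoot ι Nd M}
  {T : Top R} {F : Type} [Field F] [Finite F] [CharP F 2] {G : Type*} [Group G] [Finite G] {b : Db' T F G}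

namespace DY0

/-- `y` centralises `Q` and moves `t` by `x_r0(w)` -/
def P (b : Db' T F G) (y : G) (w : F) : Prop := y ∈ 𝐂[b.D] ∧ y * b.t * y⁻¹ = b.t * b.x T.r0 w

/-- `h` is a torus element which scales the highest root subgroup by `c` -/
def Sc (b : Db' T F G) (h : G) (c : F) : Prop :=
  h ∈ R.HH b.x ∧ c ≠ 0 ∧ ∀ w, h * b.x T.r0 w * h⁻¹ = b.x T.r0 (c * w)

variable {x y d h : G} {v w c : F}

theorem ad (b : Db' T F G) : IsAdd b.x T.r0 := b.model.add _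

theorem mem_Z : x ∈ ZZ T b.x ↔ ∃ w, b.x T.r0 w = x := (ad b).mem_rsub

theorem l_mem (w : F) : b.x T.r0 w ∈ ZZ T b.x := x_mem_rsub _ _ _

theorem l_sq (w : F) : b.x T.r0 w * b.x T.r0 w = 1 := T.x_sq b.model.toIsAB _ _

theorem l_zero : b.x T.r0 0 = 1 := (ad b).zero

theorem l_add (v w : F) : b.x T.r0 (v + w) = b.x T.r0 v * b.x T.r0 w := ad b v w

theorem Z_le_L : ZZ T b.x ≤ b.L := rsub_le (b.xL _)

theorem tL (h : x ∈ b.L) : x * b.t = b.t * x := mem_C1.1 (b.LC h)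

theorem tz (h : x ∈ ZZ T b.x) : x * b.t = b.t * x := tL (Z_le_L h)

theorem Z_sq (h : x ∈ ZZ T b.x) : x * x = 1 := by
  obtain ⟨w, rfl⟩ := mem_Z.1 h
  exact l_sq w

theorem H_le : R.HH b.x ≤ b.L :=
  StRoot.HH_le_NN.trans (StRoot.NN_le_XS_univ.trans (XS_le fun r _ a => b.xL r a))

theorem exists_sc (hh : h ∈ R.HH b.x) : ∃ c, Sc b h c := by
  obtain ⟨χ, m⟩ := b.model.toIsSt.exists_chr hh
  exact ⟨_, hh, m.ne_zero T.r0, fun w => m.conj T.r0 w⟩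

theorem exists_sc' (hc : c ≠ 0) : ∃ h, Sc b h c := by
  obtain ⟨h, hh, e⟩ := T.tor1 b.model.toIsSt T.r0 hc
  obtain ⟨c', k⟩ := exists_sc hh
  have := b.model.x_inj _ (e.symm.trans (k.2.2 1))
  rw [mul_one] at this
  exact ⟨h, this ▸ k⟩

theorem H_comm {h' : G} (hh : h ∈ R.HH b.x) (hh' : h' ∈ R.HH b.x) : h * h' = h' * h := by
  classical
  exact b.model.toIsSt.HH_comm b.model.toIsSt.hmul_of_finite hh hh'

theorem ZD : ZZ T b.x ≤ b.D := fun x hx => ⟨Z_le_L hx, mem_C1.2 (by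
  obtain ⟨w, rfl⟩ := mem_Z.1 hx
  rw [← l_add, ← l_add, add_comm])⟩

theorem HN (hh : h ∈ R.HH b.x) : h ∈ 𝐍[b.D] := mem_norm_of_cj_le (cj_le_iff.2 fun d hd => by
  obtain ⟨c, k⟩ := exists_sc (inv_mem hh)
  refine mem_inf.2 ⟨conj_mem_of_norm (le_normalizer (H_le hh)) hd.1, mem_C1.2 ?_⟩
  have e := b.DZ hd _ (l_mem (c * 1))
  rw [← k.2.2] at e
  calc h * d * h⁻¹ * b.x T.r0 1 = h * (d * (h⁻¹ * b.x T.r0 1 * h⁻¹⁻¹)) * h⁻¹ := by group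
    _ = _ := by rw [← e]; group)

theorem P.cZ (h : P b y w) (hx : x ∈ ZZ T b.x) : x * y = y * x := h.1 x (ZD hx)

theorem P.mul (h : P b x v) (h' : P b y w) : P b (x * y) (v + w) := ⟨mul_mem h.1 h'.1, by
  calc x * y * b.t * (x * y)⁻¹ = x * (y * b.t * y⁻¹) * x⁻¹ := by group
    _ = x * b.t * x⁻¹ * (x * b.x T.r0 w) * x⁻¹ := by rw [h'.2]; group
    _ = _ := by rw [h.2, ← h.cZ (l_mem w), l_add]; group⟩

theorem P.inv (h : P b y w) : P b y⁻¹ w := ⟨inv_mem h.1, by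
  calc y⁻¹ * b.t * y⁻¹⁻¹ = y⁻¹ * (b.t * b.x T.r0 w) * (b.x T.r0 w * y) := by
        rw [mul_assoc y⁻¹ (_ * _), mul_assoc b.t, ← mul_assoc (b.x T.r0 w), l_sq]; group
    _ = y⁻¹ * (y * b.t * y⁻¹) * (y * b.x T.r0 w) := by rw [h.2, h.cZ (l_mem w)]
    _ = _ := by group⟩

theorem P.of (h : y ∈ 𝐂[b.D]) (h' : y * b.t = b.t * y) : P b y 0 :=
  ⟨h, by rw [h', l_zero, mul_inv_cancel_right, mul_one]⟩

theorem P.Z (h : x ∈ ZZ T b.x) : P b x 0 := P.of (fun _ hq => (b.DZ hq x h).symm) (tz h)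

theorem P.t : P b b.t 0 := P.of (fun _ hq => tL hq.1) rfl

theorem P.comm (h : P b y 0) : y * b.t = b.t * y := by
  rw [← mul_inv_eq_iff_eq_mul, h.2, l_zero, mul_one]

theorem P.uniq (h : P b y v) (h' : P b y w) : v = w :=
  b.model.x_inj _ (mul_left_cancel (h.2.symm.trans h'.2))

theorem P.cj (h : P b y w) (h1 : d ∈ b.L) (h2 : d ∈ 𝐍[b.D]) (h3 : d * b.x T.r0 w * d⁻¹ = b.x T.r0 v) :
    P b (d * y * d⁻¹) v :=
  ⟨conj_mem_of_norm (norm_cent le_rfl h2) h.1, by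
    calc d * y * d⁻¹ * b.t * (d * y * d⁻¹)⁻¹ = d * y * (d⁻¹ * b.t) * d * y⁻¹ * d⁻¹ := by group
      _ = d * (y * b.t * y⁻¹) * d⁻¹ := by rw [tL (inv_mem h1)]; group
      _ = _ := by rw [h.2, ← h3, ← mul_assoc, tL h1]; group⟩

theorem P.sc (p : P b y w) (k : Sc b h c) : P b (h * y * h⁻¹) (c * w) :=
  p.cj (H_le k.1) (HN k.1) (k.2.2 w)

theorem h_Z (k : Sc b h c) (hx : x ∈ ZZ T b.x) : h * x * h⁻¹ ∈ ZZ T b.x := by
  obtain ⟨w, rfl⟩ := mem_Z.1 hx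
  rw [k.2.2]
  exact l_mem _

/-- the elements of `C(Q)` that map `t` into `t Z` -/
def Yt (b : Db' T F G) : Subgroup G where
  carrier := {y | ∃ w, P b y w}
  one_mem' := ⟨0, P.Z (one_mem _)⟩
  mul_mem' := fun ⟨_, h⟩ ⟨_, h'⟩ => ⟨_, h.mul h'⟩
  inv_mem' := fun ⟨_, h⟩ => ⟨_, h.inv⟩

theorem P.sq_t (h : P b y w) (k : y * y ∈ ZZ T b.x) : y * b.t * (y * b.t) = b.x T.r0 w * (y * y) := by
  nth_rw 1 [mul_inv_eq_iff_eq_mul.1 h.2]
  calc b.t * b.x T.r0 w * y * (y * b.t) = b.t * (b.x T.r0 w * (y * y) * b.t) := by group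
    _ = _ := by rw [tz (mul_mem (l_mem w) k), ← mul_assoc, b.t2, one_mul]

theorem P.zero (h : P b y 0) : y ∈ ZZ T b.x ∨ y * b.t ∈ ZZ T b.x := by
  have hn : zpowers b.t ≤ 𝐍[ZZ T b.x] := norm_of_cent (zpowers_le.2 fun _ hz => tz hz)
  obtain ⟨n, hn, _, ⟨i, rfl⟩, rfl⟩ := (mem_sup_norm hn).1 (b.cQ ⟨mem_C1.2 h.comm, h.1⟩)
  have t2 : b.t ^ (2 : ℤ) = 1 := by rw [zpow_two, b.t2]
  rcases Int.emod_two_eq_zero_or_one i with e | e
  · left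
    show n * b.t ^ i ∈ _
    rwa [zpow_eq_zpow_emod i t2, e, zpow_zero, mul_one]
  · right
    show n * b.t ^ i * b.t ∈ _
    rwa [zpow_eq_zpow_emod i t2, e, zpow_one, mul_assoc, b.t2, mul_one]

theorem P.eq (h : P b x w) (h' : P b y w) : x⁻¹ * y ∈ ZZ T b.x ∨ x⁻¹ * y * b.t ∈ ZZ T b.x :=
  P.zero (CharTwo.add_self_eq_zero w ▸ h.inv.mul h')

theorem P.sq (h : P b y w) : y * y ∈ ZZ T b.x := by
  refine (P.zero (CharTwo.add_self_eq_zero w ▸ h.mul h)).resolve_right fun k => ?_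
  have k1 : y * b.t = b.t * y := mul_left_cancel (a := y * y) (by
    rw [← mul_assoc (y * y) b.t, h.cZ k]; group)
  rcases P.zero (P.of h.1 k1) with k2 | k2
  · exact b.tL (by simpa [Z_sq k2] using Z_le_L k)
  · have := Z_sq k2
    rw [mul_assoc, ← mul_assoc b.t, ← k1, mul_assoc, b.t2, mul_one] at this
    exact b.tL (by simpa [this] using Z_le_L k)

theorem cmt (hx : x ∈ Yt b) (hy : y ∈ Yt b) : x * y * x⁻¹ * y⁻¹ ∈ ZZ T b.x := by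
  obtain ⟨v, hx⟩ := hx
  obtain ⟨w, hy⟩ := hy
  rw [show x * y * x⁻¹ * y⁻¹ = x * x * (x⁻¹ * y * (x⁻¹ * y)) * (y * y)⁻¹ by group]
  exact mul_mem (mul_mem hx.sq (hx.inv.mul hy).sq) (inv_mem hy.sq)

theorem Yt_le : Yt b ≤ 𝐂[b.D] := fun _ ⟨_, h⟩ => h.1

theorem mkY {Y : Subgroup G} (h1 : Y ≤ Yt b) (h2 : ZZ T b.x ≤ Y) (h3 : b.t ∉ Y) (h4 : ∀ w, ∃ y ∈ Y, P b y w)
    (h5 : ∀ h ∈ R.HH b.x, ∀ y ∈ Y, h * y * h⁻¹ ∈ Y) {κ : F} (hy : y ∈ Y) (p : P b y 1)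
    (e : y * y = b.x T.r0 κ) (two : Nat.card F = 2 → κ = 0) : Nonempty b.Y0 := by
  classical
  have k : ∀ y ∈ Y, P b y 0 → y ∈ ZZ T b.x := fun y hy p =>
    p.zero.resolve_right fun k => h3 (by simpa using mul_mem (inv_mem hy) (h2 k))
  have sq : ∀ x ∈ Y, ∀ w, P b x w → x * x = b.x T.r0 (κ * w) := fun x hx w q => by
    by_cases hw : w = 0
    · subst hw
      rw [Z_sq (k x hx q), mul_zero, l_zero]
    obtain ⟨h, s⟩ := exists_sc' (b := b) hw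
    have p' := p.sc s
    rw [mul_one] at p'
    have k1 := k _ (mul_mem (inv_mem (h5 h s.1 y hy)) hx) (CharTwo.add_self_eq_zero w ▸ p'.inv.mul q)
    generalize hu : (h * y * h⁻¹)⁻¹ * x = u at k1
    rw [eq_comm, eq_inv_mul_iff_mul_eq] at hu
    rw [← hu, mul_assoc, ← mul_assoc u, p'.cZ k1, mul_assoc _ u, Z_sq k1, mul_one, conj_mul, e, s.2.2, mul_comm]
  have hp : ∀ y ∈ Y, P b y (if h : ∃ w, P b y w then h.choose else 0) := fun y hy => by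
    rw [dif_pos (show ∃ w, P b y w from h1 hy)]
    exact Exists.choose_spec (show ∃ w, P b y w from h1 hy)
  refine ⟨⟨Y, fun y => if h : ∃ w, P b y w then h.choose else 0, κ, fun y hy => (hp y hy).2,
    fun w => (h4 w).imp fun y p => ⟨p.1, (hp y p.1).uniq p.2⟩, fun y hy e => k y hy (e ▸ hp y hy),
    fun y hy => sq y hy _ (hp y hy), two, fun y hy x hx => ?_, h1.trans Yt_le, h2,
    fun h hh => mem_norm_of_cj_le (cj_le_iff.2 (h5 h hh))⟩⟩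
  obtain ⟨v, p⟩ := h1 hx
  obtain ⟨w, q⟩ := h1 hy
  have := sq _ (mul_mem hy hx) _ (q.mul p)
  rw [mul_add, l_add, ← sq x hx v p, ← sq y hy w q] at this
  calc x * y = y⁻¹ * (y * x * (y * x)) * x⁻¹ := by group
    _ = _ := by rw [this]; group

/-- the complement of `⟨t⟩` given by a torus element -/
def Yh (s : Sc b h c) : Subgroup G where
  carrier := {y | ∃ x ∈ Yt b, ∃ u ∈ ZZ T b.x, y = h * x * h⁻¹ * x⁻¹ * u}
  one_mem' := ⟨1, one_mem _, 1, one_mem _, by simp⟩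
  mul_mem' := by
    rintro _ _ ⟨x, ⟨v, p⟩, u, hu, rfl⟩ ⟨y, ⟨w, q⟩, u', hu', rfl⟩
    have q' := (q.sc s).mul q.inv
    refine ⟨_, ⟨_, p.mul q⟩, _, mul_mem (mul_mem (cmt ⟨_, p⟩ ⟨_, q'.inv⟩) hu) hu', ?_⟩
    rw [mul_assoc _ u, ← mul_assoc u, q'.cZ hu]
    group
  inv_mem' := by
    rintro _ ⟨x, ⟨v, p⟩, u, hu, rfl⟩
    exact ⟨_, ⟨_, p⟩, _, mul_mem hu (inv_mem (((p.sc s).mul p.inv).mul (P.Z hu)).sq), by group⟩

end DY0

open DY0 in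
theorem Db'.y0 (b : Db' T F G) : Nonempty b.Y0 := by
  have h : ∀ w, ∃ y, P b y w := b.ex
  by_cases hq : ∀ r : F, r = 0 ∨ r = 1
  · obtain ⟨y, p, e⟩ : ∃ y, P b y 1 ∧ y * y = 1 := by
      obtain ⟨y, p⟩ := h 1
      obtain ⟨w, e⟩ := mem_Z.1 p.sq
      rcases hq w with rfl | rfl
      · exact ⟨y, p, e.symm.trans l_zero⟩
      · exact ⟨_, add_zero (1 : F) ▸ p.mul P.t, by rw [p.sq_t p.sq, ← e, l_sq]⟩
    refine mkY (Y := Yt b ⊓ C1 y) inf_le_left (fun x hx => ⟨⟨_, P.Z hx⟩, mem_C1.2 (p.cZ hx)⟩)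
      (fun k => one_ne_zero (p.uniq (P.of p.1 (mem_C1.1 k.2).symm))) (fun w => ?_) (fun a ha x hx => ?_)
      ⟨⟨_, p⟩, mem_C1.2 rfl⟩ p (e.trans l_zero.symm) fun _ => rfl
    · rcases hq w with rfl | rfl
      exacts [⟨1, one_mem _, P.Z (one_mem _)⟩, ⟨y, ⟨⟨_, p⟩, mem_C1.2 rfl⟩, p⟩]
    · obtain ⟨⟨w, q⟩, hx⟩ := hx
      obtain ⟨c, s⟩ := exists_sc ha
      obtain ⟨c', s'⟩ := exists_sc (inv_mem ha)
      have p' := p.sc s'
      rw [mul_one, (hq c').resolve_left s'.2.1] at p'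
      have e' : a⁻¹ * y * a⁻¹⁻¹ * (a⁻¹ * y * a⁻¹⁻¹) = 1 := by
        rw [conj_mul, e, mul_one, mul_inv_cancel]
      refine ⟨⟨_, q.sc s⟩, mem_C1.2 ?_⟩
      have k : x * (a⁻¹ * y * a⁻¹⁻¹) = a⁻¹ * y * a⁻¹⁻¹ * x := by
        generalize a⁻¹ * y * a⁻¹⁻¹ = y' at p' e'
        rcases p.eq p' with k | k
        · rw [← mul_inv_cancel_left y y', ← mul_assoc, mem_C1.1 hx, mul_assoc, ← q.cZ k, ← mul_assoc]
        · have k1 := p'.sq_t (e' ▸ one_mem _)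
          rw [e', mul_one, ← mul_inv_cancel_left y (y' * b.t), ← mul_assoc y⁻¹, mul_assoc, ← mul_assoc _ y, p.cZ k,
            mul_assoc y, Z_sq k, mul_one, e] at k1
          exact absurd (b.model.x_eq_one k1.symm) one_ne_zero
      calc a * x * a⁻¹ * y = a * (x * (a⁻¹ * y * a⁻¹⁻¹)) * a⁻¹ := by group
        _ = _ := by rw [k]; group
  · push Not at hq
    obtain ⟨r, r0, r1⟩ := hq
    obtain ⟨ρ, s⟩ := exists_sc' (b := b) r0
    have r2 : r + 1 ≠ 0 := fun k => r1 (CharTwo.add_eq_zero.1 k)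
    have k : ∀ {x w u}, P b x w → u ∈ ZZ T b.x → P b (ρ * x * ρ⁻¹ * x⁻¹ * u) ((r + 1) * w) :=
      fun p hu => by simpa only [add_zero, add_one_mul] using ((p.sc s).mul p.inv).mul (P.Z hu)
    have h4 : ∀ w, ∃ y ∈ Yh s, P b y w := fun w =>
      let ⟨x, p⟩ := h (w / (r + 1))
      ⟨_, ⟨x, ⟨_, p⟩, 1, one_mem _, rfl⟩, by simpa only [mul_div_cancel₀ _ r2] using k p (one_mem _)⟩
    obtain ⟨y, hy, p⟩ := h4 1
    obtain ⟨κ, e⟩ := mem_Z.1 p.sq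
    refine mkY (Y := Yh s) ?_ (fun u hu => ⟨1, one_mem _, u, hu, by simp⟩) ?_ h4 ?_ hy p e.symm fun e => ?_
    · rintro _ ⟨x, ⟨w, p⟩, u, hu, rfl⟩
      exact ⟨_, k p hu⟩
    · rintro ⟨x, ⟨w, p⟩, u, hu, e⟩
      obtain rfl : w = 0 := (mul_eq_zero.1 ((e ▸ k p hu).uniq P.t)).resolve_left r2
      refine b.tL (Z_le_L (e ▸ mul_mem ?_ hu))
      rcases p.zero with k | k
      · exact mul_mem (h_Z s k) (inv_mem k)
      · have := mul_mem (h_Z s k) (inv_mem k)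
        rwa [mul_assoc ρ, mul_assoc x, ← DY0.tL (inv_mem (H_le s.1)), mul_inv_rev, ← mul_assoc x, ← mul_assoc,
          ← mul_assoc, mul_inv_cancel_right, ← mul_assoc] at this
    · rintro a ha _ ⟨x, ⟨w, p⟩, u, hu, rfl⟩
      obtain ⟨c, s'⟩ := exists_sc ha
      refine ⟨_, ⟨_, p.sc s'⟩, _, h_Z s' hu, ?_⟩
      have : a * ρ = ρ * a := H_comm ha s.1
      calc _ = a * ρ * x * (a * ρ)⁻¹ * (a * x⁻¹ * u * a⁻¹) := by group
        _ = _ := by rw [this]; group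
    · exact absurd (((Nat.card_eq_two_iff' 0).1 e).unique r0 one_ne_zero) r1

end Cfsg.Agent.OD
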