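import Mathlib
import Cfsg.Agent.OD.PCfg
import Cfsg.Agent.GT.Quasisimple
import Cfsg.Agent.GT.PiGroups

set_option autoImplicit false
set_option linter.unusedSectionVars false

namespace Cfsg.Agent.OD

open Cfsg Cfsg.Agent.GT Cfsg.Agent.Loc.Mss Cfsg.Agent.StdB Cfsg.Agent.Chev Cfsg.Agent.FE Subgroup
open Cfsg.Agent.EE (Tw Ufa Nz)
open scoped commutatorElement

variable {G : Type*} [Group G] [Finite G] {q n : ℕ}

theorem PR0.bot {P : Subgroup G} (hP : IsPGroup 2 P) (h : ∀ g ∈ P, g * g = 1 → g = 1) : P = ⊥ := by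
  have key : ∀ k : ℕ, ∀ g ∈ P, g ^ 2 ^ k = 1 → g = 1 := fun k => by
    induction k with
    | zero => exact fun g _ e => by simpa using e
    | succ k ih => exact fun g hg e => h g hg (ih _ (mul_mem hg hg) (by rw [← pow_two, ← pow_mul, ← pow_succ', e]))
  exact eq_bot_iff.2 fun g hg => (pg_iff.1 hP g hg).elim fun k e => key k g hg e

theorem Fac.pg_C (a : Fac G q n) {P : Subgroup G} (hP : IsPGroup 2 P) (h : P ≤ a.L ⊓ 𝐂[a.L]) : P = ⊥ :=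
  PR0.bot hP fun g hg => a.zodd g (h hg)

theorem PR0.W_le (a : Fac G q n) : a.W ≤ a.U := a.WU.trans (comm_le_left le_normalizer)

theorem Fac.Z_le (a : Fac G q n) : a.Z ≤ a.U := a.ZW.trans (PR0.W_le a)

theorem Fac.perf (a : Fac G q n) : ⁅a.L, a.L⁆ = a.L := a.qs.commutator_eq

theorem Fac.dec (a : Fac G q n) {B : Subgroup G} (hB : B ≤ a.L) {g : G} (h : g ∈ B ⊔ 𝐂[a.L]) :
    ∃ u ∈ B, ∃ c ∈ 𝐂[a.L], g = u * c := by
  obtain ⟨u, hu, c, hc, e⟩ := (mem_sup_norm (norm_of_cent (cent_anti hB))).1 h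
  exact ⟨u, hu, c, hc, e.symm⟩

theorem PR0.der_ne (a : Fac G q n) : ⁅a.U, a.U⁆ ≠ ⊥ := fun e => by
  have := a.cardW
  rw [eq_bot_iff.2 (a.WU.trans e.le), card_bot] at this
  omega

theorem PR0.U_ne (a : Fac G q n) : a.U ≠ ⊥ := fun e => PR0.der_ne a (by rw [e, commutator_bot_left])

namespace Prd

variable (p : Prd G q n)

theorem pg_C {P : Subgroup G} (hP : IsPGroup 2 P) (h : P ≤ 𝐂[p.a1.L] ⊓ 𝐂[p.a2.L]) : P = ⊥ :=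
  PR0.bot hP fun g hg => p.tw.codd g (cent_sup p.a1.L p.a2.L ▸ h hg)

theorem S0_le : p.S0 ≤ p.a1.U ⊔ p.a1.A :=
  sup_le (sup_le le_sup_left (le_sup_of_le_right (p.a2.syl.le.trans ((cent_comm p.cm).trans p.a1.CA))))
    (le_sup_of_le_right p.pin1)

theorem S0_norm : p.S0 ≤ 𝐍[p.a1.U] ⊓ 𝐍[p.a1.Z] ⊓ 𝐍[p.a1.W] :=
  p.S0_le.trans (sup_le (le_inf (le_inf le_normalizer (norm_of_cent (cent_comm p.a1.ZU))) p.a1.UW)
    fun _ h => ⟨⟨(p.a1.AN h).1.1.2, (p.a1.AN h).1.2⟩, (p.a1.AN h).2⟩)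

theorem sym_S0 : p.sym.S0 = p.S0 := by
  show p.a2.U ⊔ p.a1.U ⊔ p.T0 = _
  rw [sup_comm p.a2.U]

theorem sym_D : p.sym.D = p.D := sup_comm _ _

theorem t_norm : p.t ∈ 𝐍[p.S0] ⊓ 𝐍[p.D] := by
  have h : cj(p.t, p.D) = p.D := by rw [cj_sup, p.swU, p.cj_cj p.swU, sup_comm]
  exact ⟨cj_eq_iff.1 (by rw [cj_sup, h, cj_of_norm p.tT]), cj_eq_iff.1 h⟩

theorem L_ne : p.a1.L ≠ p.a2.L := fun e =>
  PR0.U_ne p.a1 (p.a1.pg_C p.a1.syl.pg (p.a1.syl.le.trans (le_inf le_rfl (by rw [e]; exact e ▸ p.cm))))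

theorem PR0_one {g : G} (hg : g ∈ 𝐍[p.a1.L ⊔ p.a2.L]) : cj(g, p.a1.L) = p.a1.L ∨ cj(g, p.a1.L) = p.a2.L := by
  have n1 : p.a1.L ⊔ p.a2.L ≤ 𝐍[p.a1.L] := sup_le le_normalizer (norm_of_cent (cent_comm p.cm))
  have n2 : p.a1.L ⊔ p.a2.L ≤ 𝐍[p.a2.L] := sup_le (norm_of_cent p.cm) le_normalizer
  have m1 : cj(g, p.a1.L) ≤ p.a1.L ⊔ p.a2.L := cj_le_of_norm le_sup_left hg
  have m2 : p.a1.L ⊔ p.a2.L ≤ 𝐍[cj(g, p.a1.L)] := by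
    rw [← cj_norm, ← cj_of_norm hg]
    exact cj_mono g n1
  have key : ∀ a : Fac G q n, a.L ≤ p.a1.L ⊔ p.a2.L → p.a1.L ⊔ p.a2.L ≤ 𝐍[a.L] → Nat.card a.L = Nat.card p.a1.L →
      cj(g, p.a1.L) = a.L ∨ cj(g, p.a1.L) ≤ 𝐂[a.L] := fun a h1 h2 h3 =>
    (a.qs.commutator_eq_or_eq_bot (m1.trans h2)).imp
      (fun e => (eq_of_le_of_card_ge (e.ge.trans (comm_le_right (h1.trans m2))) (by rw [card_cj, h3])).symm)
      comm_eq_bot_iff'.1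
  rcases key p.a1 le_sup_left n1 rfl with h1 | h1
  · exact .inl h1
  rcases key p.a2 le_sup_right n2 (by rw [← p.swL, card_cj]) with h2 | h2
  · exact .inr h2
  exact absurd (cj_eq_bot.1 (p.pg_C (pg_cj p.a1.syl.pg g) ((cj_mono g p.a1.syl.le).trans (le_inf h1 h2))))
    (PR0.U_ne p.a1)

theorem norm_le : 𝐍[p.a1.L ⊔ p.a2.L] ≤ p.wr.H := fun g hg => by
  have h2 : cj(g, p.a2.L) = p.a2.L ∨ cj(g, p.a2.L) = p.a1.L := p.sym.PR0_one (sup_comm p.a1.L _ ▸ hg)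
  rcases p.PR0_one hg with h1 | h1 <;> rcases h2 with h2 | h2
  · exact p.wr.H0_le ⟨cj_eq_iff.1 h1, cj_eq_iff.1 h2⟩
  · exact absurd (cj_eq_cj.1 (h1.trans h2.symm)) p.L_ne
  · exact absurd (cj_eq_cj.1 (h1.trans h2.symm)) p.L_ne
  · exact WrA.Wr.mem_H_of_swap h1 h2

theorem PR0_pg : IsPGroup 2 p.wr.S := pg_sup' p.syl.pg (StdB.pg_zpowers p.tw.t2) (zpowers_le.2 p.t_norm.1)

theorem PR0_le : p.S0 ≤ p.wr.S := le_sup_left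

theorem S0_eq : p.wr.S0 = p.S0 :=
  p.syl.eq_of_le (p.PR0_pg.to_le inf_le_left) (le_inf p.PR0_le p.syl.le) inf_le_right

theorem U1_eq : p.wr.U1 = p.a1.U :=
  p.a1.syl.eq_of_le (p.PR0_pg.to_le inf_le_left)
    (le_inf ((le_sup_left.trans le_sup_left).trans p.PR0_le) p.a1.syl.le) inf_le_right

theorem U2_eq : p.wr.U2 = p.a2.U :=
  p.a2.syl.eq_of_le (p.PR0_pg.to_le inf_le_left)
    (le_inf ((le_sup_right.trans le_sup_left).trans p.PR0_le) p.a2.syl.le) inf_le_right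

theorem syl_H : Syl 2 p.wr.S p.wr.H := by
  refine Syl.of_maximal p.PR0_pg (sup_le_sup_right p.syl.le _) fun P hP h1 h2 x hx => ?_
  have h3 : P ⊓ p.wr.H0 ≤ p.S0 :=
    p.syl.ge_of_le (hP.to_le inf_le_left) (le_inf (p.PR0_le.trans h1) p.syl.le) inf_le_right
  rcases p.wr.mem_H.1 (h2 hx) with h | h
  · exact p.PR0_le (h3 ⟨hx, h⟩)
  · exact (mul_mem_cancel_right p.wr.tS).1 (p.PR0_le (h3 ⟨mul_mem hx (h1 p.wr.tS), h⟩))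

theorem disj {a : G} (ha : a ∈ p.wr.S) (h1 : a ∈ p.a1.L) (h2 : a ∈ p.a2.L) : a = 1 :=
  zpowers_eq_bot.1 (p.a1.pg_C (p.PR0_pg.to_le (zpowers_le.2 ha)) (zpowers_le.2 ⟨h1, cent_comm p.cm h2⟩))

theorem four : ∃ E, E ≤ p.wr.U1 ∧ p.wr.S0 ≤ 𝐍[E] ∧ (∀ x ∈ E, x * x = 1) ∧ 2 < Nat.card E :=
  ⟨p.a1.W, p.U1_eq ▸ PR0.W_le p.a1, p.S0_eq ▸ p.S0_norm.trans inf_le_right, p.a1.el, p.a1.cardW⟩

end Prd

end Cfsg.Agent.OD
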