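import Mathlib
import Cfsg.Agent.OD.PR0
import Cfsg.Agent.FE.ME

set_option autoImplicit false
set_option linter.unusedSectionVars false

namespace Cfsg.Agent.OD

open Cfsg Cfsg.Agent.GT Cfsg.Agent.Loc.Mss Cfsg.Agent.StdB Cfsg.Agent.Chev Cfsg.Agent.FE Subgroup
open Cfsg.Agent.EE (Tw Ufa Nz)
open scoped commutatorElement

variable {G : Type*} [Group G] [Finite G] {q n : ℕ} (p : Prd G q n)

theorem PT.sup {P1 P2 : Subgroup G} (h1 : IsPGroup 2 P1) (h2 : IsPGroup 2 P2) (l1 : P1 ≤ p.a1.L)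
    (l2 : P2 ≤ p.a2.L) : IsPGroup 2 ↥(P1 ⊔ P2) ∧ Nat.card ↥(P1 ⊔ P2) = Nat.card P1 * Nat.card P2 := by
  have hn : P1 ≤ 𝐍[P2] := norm_of_cent (l1.trans (p.cm.trans (cent_anti l2)))
  exact ⟨pg_sup h1 h2 hn, GT.card_sup_of_inf_eq_bot hn (p.a1.pg_C (h1.to_le inf_le_left)
    (inf_le_inf l1 (l2.trans (cent_comm p.cm))))⟩

theorem PT.mixed {g : G} {P1 P2 : Subgroup G} (h1 : IsPGroup 2 P1) (h2 : IsPGroup 2 P2)
    (l1 : P1 ≤ p.a1.L ⊓ C1 (g * p.t * g⁻¹)) (l2 : P2 ≤ p.a2.L ⊓ C1 (g * p.t * g⁻¹))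
    (c1 : q ^ (n + 3) ≤ Nat.card P1 ^ 2) (c2 : q ^ n ≤ Nat.card P2 ^ 2)
    (hs : g * p.t * g⁻¹ ∉ p.a2.L ⊔ 𝐂[p.a2.L]) : False := by
  obtain ⟨a1, a2⟩ := PT.sup p h1 h2 (l1.trans inf_le_left) (l2.trans inf_le_left)
  have s2 := ME.conj_sq p.tw.t2 g
  have a3 : P1 ⊔ P2 ≤ C1 (g * p.t * g⁻¹) := sup_le (l1.trans inf_le_right) (l2.trans inf_le_right)
  have a4 : P1 ⊔ P2 ≤ p.a2.L ⊔ 𝐂[p.a2.L] :=
    sup_le (le_sup_of_le_right (l1.trans (inf_le_left.trans p.cm))) (le_sup_of_le_left (l2.trans inf_le_left))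
  have hn : P1 ⊔ P2 ≤ 𝐍[zpowers (g * p.t * g⁻¹)] := norm_of_cent (cent_comm (zpowers_le.2
    (mem_cent.2 fun a ha => mem_C1.1 (a3 ha))))
  have a5 := GT.card_sup_of_inf_eq_bot hn (eq_bot_iff.2 fun x hx =>
    ((mem_zpowers_two s2).1 hx.2).resolve_right fun e => hs (e ▸ a4 hx.1))
  have a6 := p.tw.small g _ (pg_sup a1 (StdB.pg_zpowers s2) hn) (sup_le a3 (zpowers_le.2 (mem_C1.2 rfl)))
  rw [a5, a2, Nat.card_zpowers, StdB.orderOf_eq_two s2 fun e => hs (e ▸ one_mem _)] at a6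
  have a7 := Nat.mul_le_mul c1 c2
  rw [← pow_add, show n + 3 + n = 2 * n + 3 by ring] at a7
  nlinarith

theorem PT.aux {g : G} (h : g * p.t * g⁻¹ ∈ p.S0) : False := by
  have s2 := ME.conj_sq p.tw.t2 g
  rcases p.a1.cent _ (p.S0_le h) s2 with ⟨P1, h1, l1, c1⟩ | ⟨n1, P1, F1, h1, l1, f1, m1, c1, y1, k1, r1⟩ <;>
    rcases p.a2.cent _ (p.sym.S0_le (p.sym_S0 ▸ h)) s2 with
      ⟨P2, h2, l2, c2⟩ | ⟨n2, P2, F2, h2, l2, f2, m2, c2, y2, k2, r2⟩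
  · obtain ⟨a1, a2⟩ := PT.sup p h1 h2 (l1.trans inf_le_left) (l2.trans inf_le_left)
    have a6 := p.tw.small g _ a1 (sup_le (l1.trans inf_le_right) (l2.trans inf_le_right))
    have a7 := Nat.mul_le_mul c1 c2
    rw [← pow_add, show n + 3 + (n + 3) = 2 * n + 3 + 3 by ring, pow_add, ← mul_pow, ← a2] at a7
    have a8 : 2 ^ 3 ≤ q ^ 3 := Nat.pow_le_pow_left p.tw.q2 3
    nlinarith
  · exact PT.mixed p h1 h2 l1 (l2.trans m2) c1 c2 n2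
  · exact PT.mixed p.sym h2 h1 l2 (l1.trans m1) c2 c1 n1
  · have b1 : F1 ≤ p.a1.L := m1.trans inf_le_left
    have b2 : F2 ≤ p.a2.L := m2.trans inf_le_left
    obtain ⟨a1, a2⟩ := PT.sup p h1 h2 (l1.trans b1) (l2.trans b2)
    have a7 := Nat.mul_le_mul c1 c2
    rw [← pow_two, ← mul_pow, ← a2, Nat.pow_le_pow_iff_left two_ne_zero] at a7
    have d1 : y1 ∈ (P1 ⊔ P2) ⊓ 𝐂[P1 ⊔ P2] :=
      ⟨mem_sup_left k1.1, cent_sup P1 P2 ▸ ⟨k1.2, cent_anti (l2.trans b2) (p.cm (b1 (l1 k1.1)))⟩⟩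
    have d2 : y2 ∈ (P1 ⊔ P2) ⊓ 𝐂[P1 ⊔ P2] :=
      ⟨mem_sup_right k2.1, cent_sup P1 P2 ▸ ⟨cent_anti (l1.trans b1) (cent_comm p.cm (b2 (l2 k2.1))), k2.2⟩⟩
    refine r1 (le_trans (le_inf le_sup_left fun x hx => ?_) (p.tw.nz g _ (F1 ⊔ F2) a1 (sup_le_sup l1 l2)
      (perfect_sup f1 f2) (sup_le (m1.trans inf_le_right) (m2.trans inf_le_right)) a7 y2 d2 y1 d1 fun e => r2 ?_))
    · exact mem_C1.2 (p.wr.comm (b1 hx) (b2 (l2 k2.1)))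
    · exact fun x _ => mem_C1.2 (by rw [e, mul_one, one_mul])

theorem Prd.noT (g : G) : g * p.t * g⁻¹ ∉ p.wr.H0 := fun h => by
  obtain ⟨k, -, hk⟩ := p.syl.conj_le (StdB.pg_zpowers (ME.conj_sq p.tw.t2 g)) (zpowers_le.2 h)
  refine PT.aux p (g := k * g) ?_
  have := hk (conj_mem_cj (mem_zpowers _))
  rwa [show k * (g * p.t * g⁻¹) * k⁻¹ = k * g * p.t * (k * g)⁻¹ by group] at this

end Cfsg.Agent.OD
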