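import Mathlib
import Cfsg.Agent.OD.PB2
import Cfsg.Agent.OD.PU
import Cfsg.Agent.GT.TransferEval
import Cfsg.Agent.StdB.Emb
import Cfsg.Agent.WrA.Main

set_option autoImplicit false
set_option linter.unusedSectionVars false

namespace Cfsg.Agent.OD

open Cfsg Cfsg.Agent.GT Cfsg.Agent.Loc.Mss Cfsg.Agent.StdB Cfsg.Agent.Chev Cfsg.Agent.FE Subgroup
open Cfsg.Agent.EE (Tw Ufa Nz)
open scoped commutatorElement

variable {G : Type*} [Group G] [Finite G] {q n : ℕ}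

/-- a central element of `C` in the derived group lies in the derived group of a Sylow subgroup -/
theorem mem_der_of_central {C P : Subgroup G} (hP : Syl 2 P C) {y : G} (hy : y ∈ P) (hc : y ∈ 𝐂[C])
    (hd : y ∈ ⁅C, C⁆) : y ∈ ⁅P, P⁆ := by
  obtain ⟨S, h1, h2⟩ := hP.exists_sylow
  have hyC : y ∈ C := hP.le hy
  have hm : (⟨y, hyC⟩ : C) ∈ (S : Subgroup C) ⊓ commutator C ⊓ center C := by
    refine mem_inf.2 ⟨mem_inf.2 ⟨h1 ▸ hy, ?_⟩, mem_center_iff.2 fun g => Subtype.ext (mem_cent.1 hc g g.2)⟩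
    have e : (commutator C).map C.subtype = ⁅C, C⁆ := by
      rw [commutator_def, map_commutator, ← MonoidHom.range_eq_map, range_subtype]
    rw [← e] at hd
    obtain ⟨a, ha, e2⟩ := hd
    rwa [show (⟨y, hyC⟩ : C) = a from Subtype.ext e2.symm]
  have := mem_map_of_mem C.subtype (Tr.sylow_inf_commutator_inf_center_le S hm)
  rwa [map_commutator, h2] at this

theorem Prd.b3_norm2 (p : Prd G q n) : p.S0 ≤ 𝐍[p.a2.U] :=
  p.sym_S0 ▸ p.sym.S0_norm.trans (inf_le_left.trans inf_le_left)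

theorem Prd.b3_ne (p : Prd G q n) : ⁅p.a1.U, p.a1.U⁆ ≠ ⁅p.a2.U, p.a2.U⁆ := fun e => by
  have h1 : ⁅p.a1.U, p.a1.U⁆ ≤ p.a1.U := comm_le_left le_normalizer
  have h2 : ⁅p.a2.U, p.a2.U⁆ ≤ p.a2.U := comm_le_left le_normalizer
  have h3 : ⁅p.a1.U, p.a1.U⁆ = ⊥ := p.a1.pg_C (p.a1.syl.pg.to_le h1)
    (le_inf (h1.trans p.a1.syl.le) (e.le.trans (h2.trans (p.a2.syl.le.trans (cent_comm p.cm)))))
  have h4 := p.a1.cardW
  rw [le_bot_iff.1 (p.a1.WU.trans h3.le), card_bot] at h4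
  omega

theorem Prd.sylN (p : Prd G q n) : Syl 2 p.S0 𝐍[⁅p.a2.U, p.a2.U⁆] := by
  refine Syl.of_norm p.syl.pg (norm_comm p.b3_norm2 p.b3_norm2) fun P hP h1 h2 h3 => ?_
  by_contra hn
  have ht : zpowers p.t ≤ 𝐍[p.S0] := zpowers_le.2 p.t_norm.1
  have hS : Syl 2 (p.S0 ⊔ zpowers p.t) 𝐍[p.S0] := p.top.mono (sup_le le_normalizer ht) le_top
  obtain ⟨m, hm, hle⟩ := hS.conj_le hP h3
  have hS0 : cj(m, p.S0) = p.S0 := cj_of_norm hm
  have htP : p.t ∈ cj(m, P) := by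
    obtain ⟨x, hx, hx'⟩ := SetLike.not_le_iff_exists.1 hn
    obtain ⟨s, hs, u, hu, e⟩ := (mem_sup_norm ht).1 (hle (conj_mem_cj hx))
    have hs' : s ∈ cj(m, P) := cj_mono m h1 (hS0.symm ▸ hs)
    have hu' : u ∈ cj(m, P) := by
      rw [show u = s⁻¹ * (m * x * m⁻¹) by rw [← e]; group]
      exact mul_mem (inv_mem hs') (conj_mem_cj hx)
    obtain ⟨k, rfl⟩ := mem_zpowers_iff.1 hu
    have hk : p.t ^ k = p.t ^ (k % 2) := by
      conv_lhs => rw [← Int.mul_ediv_add_emod k 2, zpow_add, zpow_mul, zpow_two, p.tw.t2, one_zpow, one_mul]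
    rcases Int.emod_two_eq_zero_or_one k with h0 | h0
    · rw [hk, h0, zpow_zero, mul_one] at e
      refine absurd ?_ hx'
      have := conj_mem_of_norm' hm hs
      rwa [e, show m⁻¹ * (m * x * m⁻¹) * m = x by group] at this
    · rwa [hk, h0, zpow_one] at hu'
  have htN : cj(p.t, cj(m, ⁅p.a2.U, p.a2.U⁆)) = cj(m, ⁅p.a2.U, p.a2.U⁆) :=
    cj_of_norm (cj_norm _ m ▸ cj_mono m h2 htP)
  have s1 : cj(p.t, ⁅p.a1.U, p.a1.U⁆) = ⁅p.a2.U, p.a2.U⁆ := by rw [cj_comm, p.swU]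
  have s2 : cj(p.t, ⁅p.a2.U, p.a2.U⁆) = ⁅p.a1.U, p.a1.U⁆ := p.cj_cj s1
  have hmu : p.Mu m := ⟨(cj_mono m le_sup_left).trans hS0.le, le_sup_left.trans hS0.ge⟩
  rcases hmu.pa with h | h
  · have e : cj(m, ⁅p.a2.U, p.a2.U⁆) = ⁅p.a2.U, p.a2.U⁆ := h.sym.der
    rw [e, s2] at htN
    exact p.b3_ne htN
  · have e := h.der
    rw [← Loc.Mss.cj_cj, s1] at e
    rw [e, s1] at htN
    exact p.b3_ne htN.symm

theorem Prd.Pa.eq {p : Prd G q n} {g : G} (h : p.Pa g) : cj(g, p.a1.U) = p.a1.U := by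
  refine cj_eq_of_le fun v hv => ?_
  obtain ⟨a, ha, z, hz, e⟩ := h.b2_dec hv
  set I := ⁅p.a2.U, p.a2.U⁆ with hI
  have hIU : I ≤ p.a2.U := comm_le_left le_normalizer
  have hL : p.a1.L ≤ 𝐂[I] := p.cm.trans (cent_anti (hIU.trans p.a2.syl.le))
  have hgI : cj(g, I) = I := h.sym.der
  have hL' : cj(g, p.a1.L) ≤ 𝐂[I] := by
    have := cj_mono g hL
    rwa [cj_cent, hgI] at this
  have hP : Syl 2 (p.S0 ⊓ 𝐂[I]) 𝐂[I] := p.sylN.inf (cent_le_norm I) (norm_cent p.sylN.le)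
  have ha' : a ∈ ⁅𝐂[I], 𝐂[I]⁆ := commutator_mono hL hL (p.a1.perf.ge (p.a1.syl.le ha))
  have hv' : v ∈ ⁅𝐂[I], 𝐂[I]⁆ := by
    refine commutator_mono hL' hL' ?_
    rw [← cj_comm, p.a1.perf]
    exact cj_mono g p.a1.syl.le hv
  have hz' : z ∈ ⁅𝐂[I], 𝐂[I]⁆ := by
    rw [show z = a⁻¹ * v by rw [e]; group]
    exact mul_mem (inv_mem ha') hv'
  have hzI : z ∈ I := p.a2.WU (p.a2.ZW hz)
  have hzP : z ∈ p.S0 ⊓ 𝐂[I] :=
    mem_inf.2 ⟨(le_sup_right.trans le_sup_left : p.a2.U ≤ p.S0) (p.a2.Z_le hz), cent_anti hIU (p.a2.ZU hz)⟩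
  have h1 := mem_der_of_central hP hzP (cent_comm le_rfl hzI) hz'
  have h2 : p.S0 ⊓ 𝐂[I] ≤ 𝐂[p.a2.L] ⊔ p.a2.W :=
    (inf_le_inf_right _ (p.sym_S0 ▸ p.sym.S0_le)).trans (p.a2.cI.trans (sup_comm _ _).le)
  have hW : p.a2.W ≤ 𝐂[𝐂[p.a2.L]] := (p.a2.WU.trans (hIU.trans p.a2.syl.le)).trans (cent_comm le_rfl)
  have h3 : ⁅𝐂[p.a2.L] ⊔ p.a2.W, 𝐂[p.a2.L] ⊔ p.a2.W⁆ ≤ 𝐂[p.a2.L] := by
    rw [sup_cent_comm (norm_of_cent hW) (le_cent_sup hW p.a2.el.le_cent), Subgroup.commutator_comm,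
      sup_cent_comm (norm_of_cent hW) hW]
    exact comm_le_left le_normalizer
  have h4 : z = 1 := p.a2.zodd z ⟨p.a2.syl.le (p.a2.Z_le hz), h3 (commutator_mono h2 h2 h1)⟩
    (p.a2.el z (p.a2.ZW hz))
  rw [e, h4, mul_one]
  exact ha

theorem Prd.ok (p : Prd G q n) : p.wr.Ok where
  syl := p.syl_H
  disj := fun _ => p.disj
  uf := fun _ => p.uf
  noT := p.noT
  four := p.four
  blk := fun g h1 h2 => by
    rw [p.U1_eq, p.U2_eq, p.S0_eq] at *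
    rcases Prd.Mu.pa (p := p) ⟨h1, h2⟩ with h | h
    · exact .inl ⟨h.eq, h.sym.eq⟩
    · have e : ∀ A : Subgroup G, cj(g * p.t, A) = cj(g, cj(p.t, A)) := fun A => by
        rw [map_map, map_mul]; rfl
      have h1 := h.eq
      have h2 : cj(g * p.t, p.a2.U) = p.a2.U := h.sym.eq
      rw [e, p.swU] at h1
      rw [e, p.cj_cj p.swU] at h2
      exact .inr ⟨h2, h1⟩

theorem Prd.false (p : Prd G q n) {X : Subgroup G} [X.Normal] [IsSimpleGroup X] (hX : ∀ g, g ∈ X ∨ g * p.t ∈ X)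
    (hL : p.a1.L ≤ X) : False := p.ok.false hX hL

end Cfsg.Agent.OD
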