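import Mathlib
import Cfsg.Agent.OD.ZAbs
import Cfsg.Agent.HxD.Cy

set_option autoImplicit false
set_option linter.unusedSectionVars false

namespace Cfsg.Agent.OD

open Cfsg Cfsg.Agent.GT Cfsg.Agent.Loc.Mss Cfsg.Agent.StdB Subgroup
open scoped commutatorElement

variable {G : Type*} [Group G] [Finite G] (c : Z0' G)

namespace ZFus

theorem one_of_pow {A : Subgroup G} (h : ∀ g ∈ A, g * g = 1 → g = 1) (k : ℕ) {g : G} (hg : g ∈ A)
    (e : g ^ 2 ^ k = 1) : g = 1 := by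
  induction k with
  | zero => simpa using e
  | succ k ih => exact ih (h _ (pow_mem hg _) (by rw [← pow_two, ← pow_mul, ← pow_succ, e]))

theorem one_of_pg {A P : Subgroup G} (hP : IsPGroup 2 P) (h : ∀ g ∈ A, g * g = 1 → g = 1) {g : G} (hg : g ∈ A)
    (hp : g ∈ P) : g = 1 := by
  obtain ⟨k, e⟩ := pg_iff.1 hP g hp
  exact one_of_pow h k hg e

theorem cyc_comm {R : Subgroup G} (h : IsCyclic R) : R ≤ 𝐂[R] := fun a ha => mem_cent.2 fun b hb => by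
  obtain ⟨g, hg⟩ := h.exists_generator
  obtain ⟨i, hi⟩ := mem_zpowers_iff.1 (hg ⟨a, ha⟩)
  obtain ⟨j, hj⟩ := mem_zpowers_iff.1 (hg ⟨b, hb⟩)
  have := ((Commute.refl g).zpow_zpow j i).eq
  rw [hi, hj] at this
  exact congrArg Subtype.val this

theorem card_le {A N : Subgroup G} {B : Type*} [Finite B] (f : A → B)
    (h : ∀ a a' : A, f a = f a' → (a : G)⁻¹ * a' ∈ N) : Nat.card A ≤ Nat.card B * Nat.card ↥(A ⊓ N) := by
  rw [← Nat.card_prod]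
  have k : ∀ a, f (Function.invFun f (f a)) = f a := fun a => Function.invFun_eq ⟨a, rfl⟩
  refine Nat.card_le_card_of_injective (fun a => (f a, ⟨((Function.invFun f (f a))⁻¹ * a : A),
    ((Function.invFun f (f a))⁻¹ * a).2, h _ _ (k a)⟩)) fun a a' e => ?_
  have e1 : f a = f a' := congrArg Prod.fst e
  have e2 : (Function.invFun f (f a))⁻¹ * a = (Function.invFun f (f a'))⁻¹ * a' :=
    Subtype.ext (congrArg (fun p => (p.2 : G)) e)
  rw [e1] at e2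
  exact mul_left_cancel e2

theorem conj_sq {a : G} (h : a * a = 1) (g : G) : g * a * g⁻¹ * (g * a * g⁻¹) = 1 := by
  rw [conj_mul, h, mul_one, mul_inv_cancel]

theorem TN : c.T ≤ 𝐍[c.L] := c.syl.le.trans c.CN

theorem ZL : c.Z ≤ c.L := c.ZQ.trans (c.QU.trans c.sylU.le)

theorem ZT : c.Z ≤ c.T := c.ZQ.trans (c.QU.trans c.UT)

theorem tC : c.t ∈ 𝐂[c.L] := mem_cent.2 fun _ ha => mem_C1.1 (c.LC ha)

theorem syl_top : Syl 2 c.T (⊤ ⊓ C1 c.t) := by rw [top_inf_eq]; exact c.syl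

theorem T_norm_R : c.T ≤ 𝐍[c.R] := norm_inf le_normalizer (norm_cent (TN c))

theorem R_cent_U : c.R ≤ 𝐂[c.U] := inf_le_right.trans (cent_anti c.sylU.le)

theorem UR_cent : c.U ⊔ c.R ≤ 𝐂[c.R] := sup_le (cent_comm (R_cent_U c)) (cyc_comm c.cyc)

/-- An element of `T` centralizing `Q`. -/
theorem dec_Q {s : G} (hs : s ∈ c.T ⊓ 𝐂[c.Q]) : ∃ y ∈ c.Z, ∃ r ∈ c.R, s = y * r ∧ s * s = r * r := by
  obtain ⟨y, hy, r, hr, rfl⟩ := (mem_sup_norm (norm_of_cent (cent_anti (ZL c)))).1 (c.cQ ⟨TN c hs.1, hs.2⟩)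
  refine ⟨y, hy, r, ⟨(mul_mem_cancel_left (ZT c hy)).1 hs.1, hr⟩, rfl, ?_⟩
  have k : y * r = r * y := mem_cent.1 hr y (ZL c hy)
  rw [show y * r * (y * r) = y * (r * y) * r by group, ← k, show y * (y * r) * r = y * y * (r * r) by group,
    c.el y hy, one_mul]

end ZFus

open ZFus

namespace Z0'

theorem t_mem_R : c.t ∈ c.R := by
  refine ⟨c.syl.le_of_norm' (pg_zpowers c.t2) (zpowers_le.2 (mem_C1.2 rfl)) (zpowers_le.2 (cent_le_norm _
    (mem_cent.2 fun _ ha => mem_C1.1 (c.syl.le ha)))) (mem_zpowers _), tC c⟩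

theorem t_notMem : c.t ∉ c.L := fun h => c.t1 (c.zodd _ ⟨h, tC c⟩ c.t2)

theorem U_eq : c.T ⊓ c.L = c.U :=
  c.sylU.eq_of_le (c.syl.pg.to_le inf_le_left) (le_inf c.UT c.sylU.le) inf_le_right

theorem T_norm_U : c.T ≤ 𝐍[c.U] := by
  rw [← c.U_eq]
  exact norm_inf le_normalizer (TN c)

theorem T_norm_ZQ : c.T ≤ 𝐍[c.Z] ⊓ 𝐍[c.Q] := fun g hg =>
  c.nZ g (TN c hg) c.z c.zZ c.z1 (by rw [mem_C1.1 (c.zT hg), mul_inv_cancel_right]; exact c.zZ)

theorem U_inf_C {u : G} (hu : u ∈ c.U) (h : u ∈ 𝐂[c.L]) : u = 1 :=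
  one_of_pg c.sylU.pg c.zodd ⟨c.sylU.le hu, h⟩ hu

theorem inv_R {r : G} (hr : r ∈ c.R) (h : r * r = 1) : r = 1 ∨ r = c.t :=
  or_iff_not_imp_left.2 fun h1 => HxD.Cy.inv_eq c.cyc hr c.t_mem_R h c.t2 h1 c.t1

theorem dec {s : G} (hs : s ∈ c.U ⊔ c.R) : ∃ u ∈ c.U, ∃ r ∈ c.R, s = u * r := by
  obtain ⟨u, hu, r, hr, e⟩ := (mem_sup_norm (norm_of_cent (R_cent_U c))).1 hs
  exact ⟨u, hu, r, hr, e.symm⟩

theorem dec_inv {s : G} (hs : s ∈ c.U ⊔ c.R) (h : s * s = 1) : ∃ u ∈ c.U, u * u = 1 ∧ (s = u ∨ s = c.t * u) := by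
  obtain ⟨u, hu, r, hr, rfl⟩ := c.dec hs
  have k : u * r = r * u := mem_cent.1 (R_cent_U c hr) u hu
  rw [show u * r * (u * r) = u * (r * u) * r by group, ← k,
    show u * (u * r) * r = u * u * (r * r) by group] at h
  have u2 : u * u = 1 := c.U_inf_C (mul_mem hu hu) (by
    rw [eq_inv_of_mul_eq_one_left h]
    exact inv_mem (mul_mem hr.2 hr.2))
  rw [u2, one_mul] at h
  refine ⟨u, hu, u2, ?_⟩
  rcases c.inv_R hr h with e | e
  · exact .inl (by rw [e, mul_one])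
  · exact .inr (by rw [k, e])

theorem cen_inv {s : G} (hs : s ∈ c.T ⊓ 𝐂[c.Q]) (h : s * s = 1) : ∃ y ∈ c.Z, s = y ∨ s = c.t * y := by
  obtain ⟨y, hy, r, hr, e, e2⟩ := dec_Q c hs
  refine ⟨y, hy, ?_⟩
  rcases c.inv_R hr (e2.symm.trans h) with k | k
  · exact .inl (by rw [e, k, mul_one])
  · exact .inr (by rw [e, k, mem_C1.1 (c.LC (ZL c hy))])

theorem noZ (g : G) : g * c.t * g⁻¹ ∉ c.Z := fun h => by
  obtain ⟨l, -, e⟩ := c.Zc _ h fun e => c.t1 (conj_eq_one_iff.1 e)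
  obtain ⟨n, hn, e'⟩ := conj_in_norm (u := c.z) (g := (l * g)⁻¹) (syl_top c) (mem_top _)
    (by rw [← e]; group) c.zT
  have h1 : ⁅c.U ⊔ c.R, c.U ⊔ c.R⁆ ≤ c.U :=
    comm_sup_le le_normalizer (norm_of_cent (R_cent_U c))
      (comm_le_right (sup_le le_normalizer (norm_of_cent (R_cent_U c))))
      ((comm_eq_bot_iff.2 (UR_cent c)).le.trans bot_le)
  have h2 : c.z ∈ ⁅⁅c.T, c.T⁆, ⁅c.T, c.T⁆⁆ :=
    commutator_mono (commutator_mono c.UT c.UT) (commutator_mono c.UT c.UT) (c.zd c.zZ)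
  have h3 : zpowers n ≤ 𝐍[⁅c.T, c.T⁆] := norm_comm (zpowers_le.2 hn.2) (zpowers_le.2 hn.2)
  have h4 := conj_mem_of_norm (norm_comm h3 h3 (mem_zpowers n)) h2
  rw [e'] at h4
  exact c.t_notMem (c.sylU.le (h1 (commutator_mono c.der c.der h4)))

theorem of_tZ {g y : G} (hy : y ∈ c.Z) (h1 : y ≠ 1) (h : g * c.t * g⁻¹ = c.t * y) :
    ∃ n ∈ 𝐍[c.T], n * c.t * n⁻¹ = c.t * c.z := by
  obtain ⟨l, hl, e⟩ := c.Zc _ hy h1
  have k : l * c.t * l⁻¹ = c.t := by rw [mem_C1.1 (c.LC hl.1), mul_inv_cancel_right]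
  have k2 : l * g * c.t * (l * g)⁻¹ = c.t * c.z := by
    rw [show l * g * c.t * (l * g)⁻¹ = l * (g * c.t * g⁻¹) * l⁻¹ by group, h, ← conj_mul, k, e]
  obtain ⟨n, hn, e'⟩ := conj_in_norm (u := c.t * c.z) (g := (l * g)⁻¹) (syl_top c) (mem_top _)
    (by rw [← k2]; group) fun s hs => mem_C1.2
      (Commute.mul_right (mem_C1.1 (c.syl.le hs)) (mem_C1.1 (c.zT hs)))
  refine ⟨n⁻¹, inv_mem hn.2, ?_⟩
  calc n⁻¹ * c.t * n⁻¹⁻¹ = n⁻¹ * (n * (c.t * c.z) * n⁻¹) * n⁻¹⁻¹ := by rw [e']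
    _ = c.t * c.z := by group

theorem of_not_top (h : ¬ Syl 2 c.T ⊤) : ∃ g, ∃ y ∈ c.Z, y ≠ 1 ∧ g * c.t * g⁻¹ = c.t * y := by
  by_contra hc
  refine h (Syl.of_norm c.syl.pg le_top fun P hP hT _ hn n hnP => ?_)
  have h1 : n * c.t * n⁻¹ ∈ c.T ⊓ 𝐂[c.Q] := by
    refine ⟨conj_mem_of_norm (hn hnP) c.t_mem_R.1, mem_cent.2 fun v hv => ?_⟩
    have := mem_C1.1 (c.syl.le (conj_mem_of_norm' (hn hnP) (c.UT (c.QU hv))))
    calc v * (n * c.t * n⁻¹) = n * (n⁻¹ * v * n * c.t) * n⁻¹ := by group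
      _ = n * c.t * n⁻¹ * v := by rw [this]; group
  obtain ⟨y, hy, e | e⟩ := c.cen_inv h1 (conj_sq c.t2 n)
  · exact (c.noZ n (e ▸ hy)).elim
  · have y1 : y = 1 := by_contra fun y1 => hc ⟨n, y, hy, y1, e⟩
    rw [y1, mul_one, mul_inv_eq_iff_eq_mul] at e
    exact c.syl.ge_of_le (hP.to_le inf_le_left) (le_inf hT c.syl.le) inf_le_right ⟨hnP, mem_C1.2 e⟩

theorem two {n : G} (hn : n ∈ 𝐍[c.T]) (h : n * c.t * n⁻¹ = c.t * c.z) : c.R ≤ zpowers c.t := by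
  have key : ∀ r ∈ c.R, r * r ≠ c.t := fun r hr e => by
    have hρ : n * r * n⁻¹ ∈ cj(n, c.R) := conj_mem_cj hr
    have hρT : n * r * n⁻¹ ∈ c.T := conj_mem_of_norm hn hr.1
    have hT : c.T ≤ 𝐍[cj(n, c.R)] := by
      rw [← cj_norm]
      exact (cj_of_norm hn).ge.trans (cj_mono n (T_norm_R c))
    have h0 : ∀ g ∈ cj(n, c.R) ⊓ c.U, g * g = 1 → g = 1 := fun g hg g2 => by
      have k := c.inv_R (mem_cj.1 hg.1) (by
        rw [show n⁻¹ * g * n * (n⁻¹ * g * n) = n⁻¹ * (g * g) * n by group, g2]; group)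
      rcases k with k | k
      · calc g = n * (n⁻¹ * g * n) * n⁻¹ := by group
          _ = 1 := by rw [k]; group
      · have k2 : g = c.t * c.z := by rw [← h, ← k]; group
        have k3 := hg.2
        rw [k2] at k3
        exact (c.t_notMem (c.sylU.le ((mul_mem_cancel_right (c.QU (c.ZQ c.zZ))).1 k3))).elim
    have h1 : n * r * n⁻¹ ∈ 𝐂[c.Q] := mem_cent.2 fun v hv => by
      have hvU := c.QU hv
      have k : v * (n * r * n⁻¹) * v⁻¹ * (n * r * n⁻¹)⁻¹ = 1 := by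
        have k1 : v * (n * r * n⁻¹) * v⁻¹ * (n * r * n⁻¹)⁻¹ ∈ c.U := by
          have := mul_mem hvU (conj_mem_of_norm (c.T_norm_U hρT) (inv_mem hvU))
          simpa only [mul_assoc] using this
        have k2 : v * (n * r * n⁻¹) * v⁻¹ * (n * r * n⁻¹)⁻¹ ∈ cj(n, c.R) :=
          mul_mem (conj_mem_of_norm (hT (c.UT hvU)) hρ) (inv_mem hρ)
        exact one_of_pg c.sylU.pg h0 (mem_inf.2 ⟨k2, k1⟩) k1
      rw [mul_inv_eq_one, mul_inv_eq_iff_eq_mul] at k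
      exact k
    obtain ⟨y, -, r', hr', -, e2⟩ := dec_Q c ⟨hρT, h1⟩
    rw [conj_mul, e, h] at e2
    have h2 : c.t * c.z ∈ 𝐂[c.L] := by rw [e2]; exact mul_mem hr'.2 hr'.2
    exact c.z1 (c.U_inf_C (c.QU (c.ZQ c.zZ)) ((mul_mem_cancel_left (tC c)).1 h2))
  have all : ∀ k, ∀ e ∈ c.R, e ^ 2 ^ k = 1 → e ∈ zpowers c.t := fun k => by
    induction k with
    | zero => exact fun e _ h1 => by rw [pow_zero, pow_one] at h1; rw [h1]; exact one_mem _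
    | succ k ih =>
      intro e he h1
      have h2 := ih (e * e) (mul_mem he he) (by rw [← pow_two, ← pow_mul, ← pow_succ', h1])
      rcases (mem_zpowers_two c.t2).1 h2 with h3 | h3
      · exact (mem_zpowers_two c.t2).2 (c.inv_R he h3)
      · exact (key e he h3).elim
  intro e he
  obtain ⟨k, hk⟩ := pg_iff.1 c.syl.pg e he.1
  exact all k e he hk

theorem card_le_idx {A : Subgroup G} (hA : A ≤ c.T) : Nat.card A ≤ c.k * Nat.card ↥(A ⊓ (c.U ⊔ c.R)) := by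
  have h1 : (c.U ⊔ c.R).relIndex A ≤ c.k :=
    (relIndex_le_of_le_right hA (FiniteIndex.index_ne_zero (H := (c.U ⊔ c.R).subgroupOf c.T))).trans c.idx
  have h2 := ((c.U ⊔ c.R).subgroupOf A).index_mul_card
  have h3 : Nat.card ((c.U ⊔ c.R).subgroupOf A) = Nat.card ↥(A ⊓ (c.U ⊔ c.R)) := by
    rw [← inf_subgroupOf_left]
    exact Nat.card_congr (subgroupOfEquivOfLe inf_le_left).toEquiv
  rw [← h2, h3]
  exact Nat.mul_le_mul_right _ h1

end Z0'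

end Cfsg.Agent.OD
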