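import Mathlib
import Cfsg.Agent.OD.ZOut

/-! There are exactly three conjugates of `t` in the centre of `Y`. -/

set_option autoImplicit false
set_option linter.unusedSectionVars false

namespace Cfsg.Agent.OD

open Cfsg Cfsg.Agent.GT Cfsg.Agent.Loc.Mss Cfsg.Agent.StdB Subgroup
open scoped commutatorElement

variable {G : Type*} [Group G] [Finite G] {c : Z0' G} {h : c.Hard}

/-- The first step. -/
structure ZIn (h : c.Hard) (u s : G) : Prop where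
  uU : u ∈ c.U
  u2 : u * u = 1
  uZ : u ∉ c.Z
  s_eq : s = u ∨ s = c.t * u
  om : s ∈ c.Om h.Y
  ne : s ≠ c.t

theorem zin_of {s : G} (hs : s ∈ c.Om h.Y) (s1 : s ≠ c.t) : ∃ u, ZIn h u s := by
  obtain ⟨u, hu, u2, e⟩ := c.dec_inv (h.inner hs) (c.om_sq hs)
  refine ⟨u, hu, u2, fun hz => ?_, e, hs, s1⟩
  rcases e with rfl | rfl
  exacts [h.om_notZ hs hz, s1 (by rw [h.om_tZ hs hz, mul_one])]

theorem zin_cm {Y : Subgroup G} {a b : G} (ha : a ∈ Y ⊓ 𝐂[Y]) (hb : b ∈ Y ⊓ 𝐂[Y]) : Commute a b :=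
  mem_cent.1 hb.2 a ha.1

namespace ZIn

variable {u s : G} (k : ZIn h u s)
include k

theorem inf {X : Subgroup G} (hX : X ≤ C1 c.t) : X ⊓ C1 s = X ⊓ C1 u := by
  rcases k.s_eq with rfl | rfl
  · rfl
  · ext g
    refine and_congr_right fun hg => ?_
    show g ∈ C1 _ ↔ g ∈ C1 _
    rw [mem_C1, mem_C1, ← mul_assoc, mem_C1.1 (hX hg), mul_assoc, mul_assoc, mul_right_inj]

theorem Y_eq : h.Y = c.T ⊓ C1 u := (h.Y_eq k.om k.ne).trans (k.inf c.TC)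

theorem u_mem : u ∈ h.Y ⊓ 𝐂[h.Y] := by
  rw [k.Y_eq]
  exact ⟨⟨c.UT k.uU, mem_C1.2 rfl⟩, mem_cent.2 fun a ha => mem_C1.1 ha.2⟩

theorem syl : Syl 2 (c.U ⊓ C1 u) (c.L ⊓ C1 u) := k.inf c.LC ▸ k.inf (c.UL.trans c.LC) ▸ h.sylU k.om k.ne

theorem nr : ¬ ∃ l ∈ c.L, u = l * c.z * l⁻¹ := by
  rintro ⟨l, hl, e⟩
  obtain ⟨g, -, h1⟩ := k.syl.conj_le (pg_cj c.sylU.pg l)
    (le_inf (cj_le_of_mem c.UL hl) (e ▸ Cfg.cj_C1 l c.z ▸ cj_mono l (c.UT.trans c.zT)))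
  have h2 : c.U ⊓ C1 u = c.U := eq_of_le_of_card_ge inf_le_left (by simpa only [card_cj] using card_le_of_le h1)
  obtain ⟨y, hy, e | e⟩ := c.cen_inv (s := u) ⟨c.UT k.uU, mem_cent.2 fun a ha => mem_C1.1 (h2.ge (c.QU ha)).2⟩ k.u2
  · exact k.uZ (e ▸ hy)
  · exact c.t_notMem ((mul_mem_cancel_right (c.UL (c.QU (c.ZQ hy)))).1 (e ▸ c.UL k.uU))

theorem Z_le : c.Z ≤ h.Y := k.Y_eq ▸ le_inf c.ZT fun _ hy => mem_C1.2 (mem_cent.1 (c.ZU hy) _ k.uU).symm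

theorem z_mem : c.z ∈ h.Y ⊓ 𝐂[h.Y] := ⟨k.Z_le c.zZ, mem_cent.2 fun _ ha => mem_C1.1 (c.zT (h.le ha))⟩

theorem cls {e : G} (he : e ∈ c.U ⊓ 𝐂[h.Y]) (e2 : e * e = 1) (hz : e ∉ c.Z) : ∃ l ∈ c.L, e = l * u * l⁻¹ :=
  (c.f1 u k.uU k.u2 (fun r => k.uZ (r ▸ one_mem _)) k.nr k.syl e
    ⟨he.1, cent_anti (k.Y_eq ▸ inf_le_inf_right _ c.UT) he.2⟩ e2).resolve_left hz

/-- Replacing `u` by another involution outside `Z`. -/
theorem rep {e : G} (he : e ∈ c.U ⊓ 𝐂[h.Y]) (e2 : e * e = 1) (hz : e ∉ c.Z) : s * u * e ∈ c.Om h.Y := by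
  obtain ⟨l, hl, r⟩ := k.cls he e2 hz
  refine ⟨k.om.1.trans (isConj_iff.2 ⟨l, ?_⟩), mul_mem (mul_mem k.om.2 k.u_mem)
    (mem_inf.2 ⟨k.Y_eq ▸ ⟨c.UT he.1, mem_C1.2 (mem_cent.1 he.2 _ k.u_mem.1).symm⟩, he.2⟩)⟩
  rcases k.s_eq with rfl | rfl
  · rw [k.u2, one_mul, r]
  · rw [mul_assoc c.t u, k.u2, mul_one, r, ← mul_assoc, mem_C1.1 (c.LC hl)]; group

theorem cl0 {y : G} (hy : y ∈ c.Z ⊓ 𝐂[h.Y]) : s * y ∈ c.Om h.Y := by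
  have := k.rep (e := u * y) (mem_inf.2 ⟨mul_mem k.uU (c.QU (c.ZQ hy.1)), mul_mem (mem_inf.1 k.u_mem).2 (mem_inf.1 hy).2⟩) (by
    rw [mul_assoc, ← mul_assoc y, ← mem_cent.1 hy.2 u k.u_mem.1, mul_assoc, c.el y hy.1, mul_one, k.u2])
    fun r => k.uZ ((mul_mem_cancel_right (mem_inf.1 hy).1).1 r)
  rwa [mul_assoc, ← mul_assoc u, k.u2, one_mul] at this

omit k in
theorem cl {a b n y : G} (hn : n ∈ 𝐍[h.Y]) (e : n * c.t * n⁻¹ = a) (hb : b ∈ c.Om h.Y) (ne : b ≠ a)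
    (hy : y ∈ c.Z ⊓ 𝐂[h.Y]) : b * (n * y * n⁻¹) ∈ c.Om h.Y := by
  obtain ⟨u, k⟩ := zin_of (h.om_conj hb (inv_mem hn)) fun r => ne (by rw [← e, ← r]; group)
  have := h.om_conj (k.cl0 hy) hn
  rwa [show n * (n⁻¹ * b * n⁻¹⁻¹ * y) * n⁻¹ = b * (n * y * n⁻¹) by group] at this

theorem key {a n y : G} (hn : n ∈ 𝐍[h.Y]) (e : n * c.t * n⁻¹ = a) (ne : a ≠ c.t) (hy : y ∈ c.Z ⊓ 𝐂[h.Y])
    (y1 : y ≠ 1) : c.t * (n * c.z * n⁻¹) * y = a := by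
  have hz : c.z ∈ c.Z ⊓ 𝐂[h.Y] := ⟨c.zZ, k.z_mem.2⟩
  have h1 := cl (one_mem _) (a := c.t) (by simp) (cl hn e h.t_om ne.symm hz) (by simpa using c.z1) hy
  rw [one_mul, inv_one, mul_one] at h1
  by_contra r
  have h2 := cl hn e h1 r hz
  have m := zV_conj hn (v := c.z) ⟨k.z_mem, c.zz⟩
  rw [mul_assoc, ← mem_cent.1 hy.2 _ m.1.1, mul_assoc, ← mul_assoc (n * c.z * n⁻¹), m.2, one_mul] at h2
  exact y1 (h.om_tZ h2 hy.1)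

theorem eq_z {y : G} (hy : y ∈ c.Z ⊓ 𝐂[h.Y]) (y1 : y ≠ 1) : y = c.z := by
  obtain ⟨n, hn, e⟩ := h.trans k.om
  exact mul_left_cancel ((k.key hn e k.ne hy y1).trans (k.key hn e k.ne ⟨c.zZ, k.z_mem.2⟩ c.z1).symm)

theorem fix0 {n : G} (hn : n ∈ 𝐍[h.Y]) (ne : n * c.t * n⁻¹ ≠ c.t) : n * (c.t * c.z) * n⁻¹ = c.t * c.z := by
  have m := zV_conj hn (v := c.z) ⟨k.z_mem, c.zz⟩
  rw [← conj_mul, ← k.key hn rfl ne ⟨c.zZ, k.z_mem.2⟩ c.z1, mul_assoc, zin_cm k.z_mem m.1, mul_assoc,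
    ← mul_assoc (n * c.z * n⁻¹), m.2, one_mul]

theorem fix {n : G} (hn : n ∈ 𝐍[h.Y]) : n * (c.t * c.z) * n⁻¹ = c.t * c.z := by
  by_cases e : n * c.t * n⁻¹ = c.t
  · obtain ⟨m, hm, e1⟩ := h.trans k.om
    have h1 := k.fix0 hm (e1 ▸ k.ne)
    have h2 := k.fix0 (mul_mem hm hn) (by
      rw [show m * n * c.t * (m * n)⁻¹ = m * (n * c.t * n⁻¹) * m⁻¹ by group, e, e1]; exact k.ne)
    rw [show m * n * (c.t * c.z) * (m * n)⁻¹ = m * (n * (c.t * c.z) * n⁻¹) * m⁻¹ by group] at h2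
    simpa using h2.trans h1.symm
  · exact k.fix0 hn e

theorem tri {a b : G} (ha : a ∈ c.Om h.Y) (hb : b ∈ c.Om h.Y) (ne : b ≠ a) : b * a * (c.t * c.z) ∈ c.Om h.Y := by
  obtain ⟨n, hn, e⟩ := h.trans ha
  have := cl hn e hb ne ⟨c.zZ, k.z_mem.2⟩
  rwa [show n * c.z * n⁻¹ = a * (c.t * c.z) by
    rw [← k.fix hn, ← e, conj_mul, ← mul_assoc c.t, c.t2, one_mul], ← mul_assoc] at this

theorem om_eq : c.Om h.Y = {c.t, s, s * c.z} := by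
  obtain ⟨x, hx, h1⟩ := h.exists_x
  have f : ∀ b ∈ c.Om h.Y, x * b * x⁻¹ = b → b = c.t := fun b hb e => by_contra fun r =>
    h1 (h.Y_eq hb r ▸ ⟨c.QT hx.1, mem_C1.2 (mul_inv_eq_iff_eq_mul.1 e)⟩)
  have g : ∀ a ∈ c.Om h.Y, ∀ b ∈ c.Om h.Y, b ≠ a → x * (b * a) * x⁻¹ = b * a → b = a * c.z := fun a ha b hb ne e => by
    have := f _ (k.tri ha hb ne) (by rw [← conj_mul, e, k.fix hx.2])
    rw [zin_cm h.t_om.2 k.z_mem, ← mul_assoc, mul_eq_right, mul_assoc] at this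
    rw [eq_inv_of_mul_eq_one_left this, mul_inv_rev, inv_eq_of_mul_eq_one_right c.zz,
      inv_eq_of_mul_eq_one_right (c.om_sq ha), zin_cm k.z_mem ha.2]
  have sw : ∀ a ∈ c.Om h.Y, a ≠ c.t → x * a * x⁻¹ = a * c.z := fun a ha ne =>
    g a ha _ (h.om_conj ha hx.2) (fun e => ne (f a ha e)) (by
      rw [← conj_mul, zin_cm (h.om_conj ha hx.2).2 ha.2, show x * (x * a * x⁻¹) * x⁻¹ = x * x * a * (x * x)⁻¹ by group,
        mem_cent.1 ha.2.2 _ (k.Z_le (c.sq x hx.1)), mul_inv_cancel_right])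
  refine Set.Subset.antisymm (fun a ha => ?_) ?_
  · by_cases e : a = c.t
    · exact .inl e
    by_cases e' : a = s
    · exact .inr (.inl e')
    refine .inr (.inr (g s k.om a ha e' ?_))
    rw [← conj_mul, sw a ha e, sw s k.om k.ne, mul_assoc, ← mul_assoc c.z, zin_cm k.z_mem k.om.2, mul_assoc s, c.zz,
      mul_one]
  · rintro _ (rfl | rfl | rfl)
    exacts [h.t_om, k.om, k.cl0 ⟨c.zZ, k.z_mem.2⟩]

theorem cen {e : G} (he : e ∈ c.U ⊓ 𝐂[h.Y]) (e2 : e * e = 1) : e = 1 ∨ e = c.z ∨ e = u ∨ e = u * c.z := by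
  by_cases hz : e ∈ c.Z
  · exact (em (e = 1)).imp_right fun r => .inl (k.eq_z ⟨hz, he.2⟩ r)
  have h1 := k.rep he e2 hz
  have i : u⁻¹ = u := inv_eq_of_mul_eq_one_right k.u2
  rw [k.om_eq] at h1
  rcases h1 with r | r | r
  · exfalso
    rcases k.s_eq with rfl | rfl
    · exact c.t_notMem (r ▸ c.UL (mul_mem (mul_mem k.uU k.uU) he.1))
    · rw [mul_assoc c.t u, k.u2, mul_one, mul_eq_left] at r
      exact hz (r ▸ one_mem _)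
  · rw [mul_assoc, mul_eq_left] at r
    exact .inr (.inr (.inl ((eq_inv_of_mul_eq_one_right r).trans i)))
  · rw [Set.mem_singleton_iff, mul_assoc, mul_right_inj] at r
    exact .inr (.inr (.inr (by rw [← r, ← mul_assoc, k.u2, one_mul])))

end ZIn

variable (h) in
theorem Z0'.Hard.tri : Nonempty (c.Tri h) := by
  obtain ⟨s, hs, s1⟩ := h.ex
  obtain ⟨u, k⟩ := zin_of hs s1
  exact ⟨⟨u, s, k.uU, k.u2, k.uZ, k.nr, k.s_eq, k.Y_eq, k.om_eq, fun _ => k.cen,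
    fun _ hn => mem_C1.2 (mul_inv_eq_iff_eq_mul.1 (k.fix hn))⟩⟩

end Cfsg.Agent.OD
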